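import Cfsg.Agent.S1545
import Cfsg.Agent.S1443
import Cfsg.Agent.Lib.CoprimeHyperplane
import Cfsg.Agent.SignalizersComponents.NoFixedGen
import Cfsg.Agent.OddOrderLocal.FitCores
import Cfsg.Agent.OddOrderLocal.HallPi
import Cfsg.Agent.PLocal.OffenderStep
import Cfsg.Agent.J3Type.Closing
import Cfsg.Agent.PLocal.HHBCore
import Cfsg.Agent.OddOrderLocal.Thm34
import Mathlib
import Cfsg.Agent.H466.RealLift
import Cfsg.Agent.S0543
import Cfsg.Agent.SolvableStructure.ComplementSystem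
import Cfsg.Prelude.Def_LieTwisted
import Cfsg.Prelude.Def_Local
import Cfsg.Agent.FastGrp
import Cfsg.Agent.Prune
set_option linter.all false

section
prune_inst 0x7ffdfefbbffda1dfffff7e7fffdddffe3994dfffbcdffb4bffec7bffbfff238a19e5fbad19e0d8fe1ff6c2b610a87803fd7ee23fea6bdc7ffffd5ff45ffbee1fe5ffbd0d11dea8b40f7e6fff9bf0778e7f3fffffffffffffffffffffffffffbeffffffffffff

-- part: H381/Tools
section
set_option linter.all false
open scoped Cfsg.Agent.FastGrp

/-!
# Tools for the nonsolvability criterion (helper381)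
-/

set_option autoImplicit false
set_option linter.unusedSectionVars false

namespace Cfsg.Agent.H381.Tools

open Subgroup
open Cfsg (piCoreOf fittingOf IsPiHallOf)
open Cfsg.Agent.SignalizersComponents.LocalGlobal (NoFixed)

universe u

variable {G : Type u} [Group G]

theorem orderOf_mul {a b : G} {m n : ℕ} (h : Commute a b) (ha : orderOf a = m) (hb : orderOf b = n)
    (hmn : m.Coprime n) : orderOf (a * b) = m * n := by
  rw [h.orderOf_mul_eq_mul_orderOf_of_coprime (by rw [ha, hb]; exact hmn), ha, hb]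

theorem orderOf_mul3 {a b c : G} {l m n : ℕ} (hab : Commute a b) (hac : Commute a c)
    (hbc : Commute b c) (ha : orderOf a = l) (hb : orderOf b = m) (hc : orderOf c = n)
    (hlm : l.Coprime m) (hln : l.Coprime n) (hmn : m.Coprime n) :
    orderOf (a * b * c) = l * m * n :=
  orderOf_mul (hac.mul_left hbc) (orderOf_mul hab ha hb hlm) hc (Nat.Coprime.mul_left hln hmn)

/-- an element of order `m * n` is a product of commuting elements of orders `m` and `n` -/
theorem exists_pair {g : G} {m n : ℕ} (hm : m ≠ 0) (hn : n ≠ 0) (hg : orderOf g = m * n) :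
    ∃ a b : G, Commute a b ∧ orderOf a = m ∧ orderOf b = n := by
  refine ⟨g ^ n, g ^ m, (Commute.refl g).pow_pow n m, ?_, ?_⟩
  · rw [orderOf_pow_of_dvd hn (by rw [hg]; exact dvd_mul_left _ _), hg,
      Nat.mul_div_cancel _ (Nat.pos_of_ne_zero hn)]
  · rw [orderOf_pow_of_dvd hm (by rw [hg]; exact dvd_mul_right _ _), hg,
      Nat.mul_div_cancel_left _ (Nat.pos_of_ne_zero hm)]

theorem mem_cent_iff {x g : G} : x ∈ centralizer ({g} : Set G) ↔ Commute g x := by
  rw [mem_centralizer_singleton_iff]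
  exact ⟨fun h => h.symm, fun h => h.symm⟩

theorem mem_fix {V : Subgroup G} {x g : G} : x ∈ V ⊓ centralizer {g} ↔ x ∈ V ∧ Commute g x := by
  rw [mem_inf, mem_cent_iff]

section Finite

variable [Finite G]

/-- a subgroup whose order is divisible by a prime `q` has an element of order `q` -/
theorem exists_mem_of_dvd {X : Subgroup G} {q : ℕ} (hq : q.Prime) (h : q ∣ Nat.card X) :
    ∃ x ∈ X, orderOf x = q :=
  Cfsg.Agent.OddOrderLocal.FitCores.exists_mem_orderOf hq h

theorem exists_mem_of_ne_bot {X : Subgroup G} {q : ℕ} (hq : q.Prime) (hX : IsPGroup q X)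
    (h : X ≠ ⊥) : ∃ x ∈ X, orderOf x = q :=
  exists_mem_of_dvd hq (Cfsg.Agent.OddOrderLocal.FitCores.dvd_card_of_ne_bot hq hX h le_rfl)

theorem dvd_card_of_mem {X : Subgroup G} {x : G} {n : ℕ} (hx : x ∈ X) (h : orderOf x = n) :
    n ∣ Nat.card X := by
  rw [← h]
  exact Cfsg.Agent.OddOrderLocal.HallPi.orderOf_dvd_card_of_mem hx

theorem isPGroup_zpowers {q : ℕ} (hq : q.Prime) {x : G} (hx : orderOf x = q) :
    IsPGroup q (zpowers x) :=
  Cfsg.Agent.OddOrderLocal.FitCores.isPGroup_zpowers hq hx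

/-- zpowers of prime order: containment from a nontrivial common element -/
theorem zpowers_eq_of_mem {q : ℕ} {x y : G} (hx : orderOf x = q) (hy : orderOf y = q)
    (h : y ∈ zpowers x) : x ∈ zpowers y := by
  have h1 : zpowers y ≤ zpowers x := by rwa [zpowers_le]
  have h2 : zpowers y = zpowers x := by
    apply Subgroup.eq_of_le_of_card_ge h1
    rw [Nat.card_zpowers, Nat.card_zpowers, hx, hy]
  rw [h2]
  exact mem_zpowers x

/-- **Noncyclic action**: two independent commuting elements of prime order `x` normalising a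
nontrivial subgroup `V` of order prime to `x`: some element of order `x` of the group they generate has
nontrivial fixed points on `V`. -/
theorem exists_fixed {x : ℕ} (hx : x.Prime) {a b : G} (ha : orderOf a = x) (hb : orderOf b = x)
    (hab : Commute a b) (hne : b ∉ zpowers a) (V : Subgroup G) (hV : ¬ x ∣ Nat.card V) (hV1 : V ≠ ⊥)
    (haV : a ∈ normalizer (V : Set G)) (hbV : b ∈ normalizer (V : Set G)) :
    ∃ e ∈ zpowers a ⊔ zpowers b, orderOf e = x ∧ V ⊓ centralizer {e} ≠ ⊥ := by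
  have : Fact x.Prime := ⟨hx⟩
  set A : Subgroup G := zpowers a ⊔ zpowers b with hA
  have hcomm : ∀ u ∈ A, ∀ v ∈ A, u * v = v * u := by
    have hc : zpowers b ≤ normalizer (zpowers a : Set G) := by
      rw [zpowers_le]
      apply centralizer_le_normalizer
      rw [mem_centralizer_iff]
      intro y hy
      obtain ⟨n, rfl⟩ := mem_zpowers_iff.mp hy
      exact (hab.zpow_left n).eq
    intro u hu v hv
    obtain ⟨u1, hu1, u2, hu2, rfl⟩ :=
      (Cfsg.Agent.SignalizersComponents.CoprimeBasic.mem_sup_iff hc u).mp hu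
    obtain ⟨v1, hv1, v2, hv2, rfl⟩ :=
      (Cfsg.Agent.SignalizersComponents.CoprimeBasic.mem_sup_iff hc v).mp hv
    obtain ⟨i, rfl⟩ := mem_zpowers_iff.mp hu1
    obtain ⟨j, rfl⟩ := mem_zpowers_iff.mp hu2
    obtain ⟨k, rfl⟩ := mem_zpowers_iff.mp hv1
    obtain ⟨l, rfl⟩ := mem_zpowers_iff.mp hv2
    have h1 : Commute (a ^ i * b ^ j) (a ^ k * b ^ l) := by
      refine Commute.mul_left (Commute.mul_right ?_ ?_) (Commute.mul_right ?_ ?_)
      · exact (Commute.refl a).zpow_zpow i k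
      · exact hab.zpow_zpow i l
      · exact hab.symm.zpow_zpow j k
      · exact (Commute.refl b).zpow_zpow j l
    exact h1.eq
  have hpow : ∀ u ∈ A, u ^ x = 1 := by
    have hle : A ≤ ({ carrier := {u | u ∈ A ∧ u ^ x = 1}
                      one_mem' := ⟨one_mem _, one_pow _⟩
                      mul_mem' := by
                        rintro u v ⟨hu, hu1⟩ ⟨hv, hv1⟩
                        refine ⟨mul_mem hu hv, ?_⟩
                        have h1 : Commute u v := show u * v = v * u from hcomm u hu v hv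
                        rw [h1.mul_pow, hu1, hv1, one_mul]
                      inv_mem' := by
                        rintro u ⟨hu, hu1⟩
                        exact ⟨inv_mem hu, by rw [inv_pow, hu1, inv_one]⟩ } : Subgroup G) := by
      refine sup_le (zpowers_le.mpr ⟨?_, ?_⟩) (zpowers_le.mpr ⟨?_, ?_⟩)
      · exact le_sup_left (a := zpowers a) (mem_zpowers a)
      · rw [← ha]; exact pow_orderOf_eq_one a
      · exact le_sup_right (a := zpowers a) (mem_zpowers b)
      · rw [← hb]; exact pow_orderOf_eq_one b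
    intro u hu
    exact (hle hu).2
  have hEA : Cfsg.IsElementaryAbelian x A := ⟨⟨⟨fun u v => Subtype.ext (hcomm u u.2 v v.2)⟩⟩, hpow⟩
  have hA1 : A ≠ ⊥ := by
    intro h
    have : a ∈ (⊥ : Subgroup G) := by rw [← h]; exact le_sup_left (a := zpowers a) (mem_zpowers a)
    rw [mem_bot] at this
    rw [this, orderOf_one] at ha
    exact hx.one_lt.ne ha
  have hAV : A ≤ normalizer (V : Set G) := by
    rw [hA, sup_le_iff, zpowers_le, zpowers_le]; exact ⟨haV, hbV⟩
  by_contra hcon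
  push Not at hcon
  have h1 := Cfsg.Agent.Lib.CoprimeHyperplane.iSup_centralizer_hyperplane hEA hA1 hV hAV
  apply hV1
  rw [← h1, eq_bot_iff, iSup_le_iff]
  rintro ⟨B, hBA, hBi⟩
  -- `B` is not trivial
  have hB1 : B ≠ ⊥ := by
    rintro rfl
    rw [relIndex_bot_left] at hBi
    have h2 : zpowers a = A := by
      apply Subgroup.eq_of_le_of_card_ge (by rw [hA]; exact le_sup_left)
      rw [hBi, Nat.card_zpowers, ha]
    apply hne
    rw [h2]
    exact le_sup_right (a := zpowers a) (mem_zpowers b)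
  obtain ⟨e, heB, he1⟩ := B.bot_or_exists_ne_one.resolve_left hB1
  have he2 : orderOf (e : G) = x := orderOf_eq_prime (hpow _ (hBA heB)) he1
  have h3 := hcon e (hBA heB) he2
  rw [← h3]
  exact inf_le_inf_left _ (centralizer_le (by simpa using heB))

theorem coprime_pow_card {q : ℕ} (hq : q.Prime) {X : Subgroup G} (hX : IsPGroup q X) {n : ℕ}
    (hn : ¬ q ∣ n) : (Nat.card X).Coprime n :=
  Cfsg.Agent.OddOrderLocal.FitCores.coprime_of_isPGroup hq hn hX

theorem not_dvd_card {q r : ℕ} (hq : q.Prime) (hr : r.Prime) (h : r ≠ q) {X : Subgroup G}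
    (hX : IsPGroup q X) : ¬ r ∣ Nat.card X := by
  intro hd
  have h1 := coprime_pow_card hq hX (n := r)
    (fun h2 => h ((Nat.prime_dvd_prime_iff_eq hq hr).mp h2).symm)
  have h2 : r ∣ 1 := h1 ▸ Nat.dvd_gcd hd dvd_rfl
  exact hr.one_lt.ne' (Nat.dvd_one.mp h2)

theorem pow_eq_one {g : G} {n : ℕ} (h : orderOf g = n) : g ^ n = 1 := by
  rw [← h]; exact pow_orderOf_eq_one g

theorem commutator_zpowers_eq_bot {X : Subgroup G} {h : G} (hb : ⁅X, zpowers h⁆ = ⊥) :
    h ∈ centralizer (X : Set G) := by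
  rw [commutator_comm, commutator_eq_bot_iff_le_centralizer, zpowers_le] at hb
  exact hb

/-- The linear tool: an element of prime order `r` without fixed points on the `v`-group `V`. -/
theorem tool {r x v : ℕ} (hr : r.Prime) (hx : x.Prime) (hv : v.Prime) (hrx : r ≠ x) (hvx : v ≠ x)
    (hvr : v ≠ r) (hNF : NoFixed.{u} r {x}) {V X : Subgroup G} {h : G} (hV : IsPGroup v V)
    (hX : IsPGroup x X) (hh : orderOf h = r) (hhV : h ∈ normalizer (V : Set G))
    (hhX : h ∈ normalizer (X : Set G)) (hXV : X ≤ normalizer (V : Set G))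
    (hfix : V ⊓ centralizer {h} = ⊥) : ⁅X, zpowers h⁆ ≤ centralizer (V : Set G) := by
  have : Fact x.Prime := ⟨hx⟩
  have hn := hX.isNilpotent
  exact hNF G V X h v hv (by rw [Set.mem_singleton_iff]; exact hvx) hvr hV (by infer_instance)
    (Cfsg.Agent.SignalizersComponents.InvariantHall.piNum_of_isPGroup hX (Set.mem_singleton x))
    (not_dvd_card hx hr hrx hX) (pow_eq_one hh) hhV hhX hXV hfix

/-- `tool` with a faithful action: `h` has fixed points on `V` as soon as `h` does not centralise the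
`x`-group `X` acting faithfully on `V`. -/
theorem fix_ne_bot {r x v : ℕ} (hr : r.Prime) (hx : x.Prime) (hv : v.Prime) (hrx : r ≠ x)
    (hvx : v ≠ x) (hvr : v ≠ r) (hNF : NoFixed.{u} r {x}) {V X : Subgroup G} {h : G}
    (hV : IsPGroup v V) (hX : IsPGroup x X) (hh : orderOf h = r)
    (hhV : h ∈ normalizer (V : Set G)) (hhX : h ∈ normalizer (X : Set G))
    (hXV : X ≤ normalizer (V : Set G)) (hfaith : X ⊓ centralizer (V : Set G) = ⊥)
    (hne : h ∉ centralizer (X : Set G)) : V ⊓ centralizer {h} ≠ ⊥ := by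
  intro hfix
  apply hne
  apply commutator_zpowers_eq_bot
  rw [← hfaith, eq_comm]
  have h1 := tool hr hx hv hrx hvx hvr hNF hV hX hh hhV hhX hXV hfix
  have h2 : ⁅X, zpowers h⁆ ≤ X := by
    rw [commutator_comm]
    apply (Subgroup.commutator_le).mpr
    intro a ha b hb
    have h3 := (mem_normalizer_iff.mp ((zpowers_le.mpr hhX : zpowers h ≤ _) ha) b).mp hb
    rw [commutatorElement_def]
    exact mul_mem h3 (inv_mem hb)
  rw [hfaith]
  exact ((eq_bot_iff).mpr (by rw [← hfaith]; exact le_inf h2 h1)).symm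

/-- A Frobenius group `U ⟨y⟩` (kernel the `q`-group `U`) acting on the `p`-group `V` such that `y` has
no fixed points: `U` centralises `V`. -/
theorem frob {q p : ℕ} (hq : q.Prime) (hp : p.Prime) (hqp : q ≠ p) {U V : Subgroup G} {y : G}
    (hU : IsPGroup q U) (hV : IsPGroup p V) (hU1 : U ≠ ⊥) (hy1 : y ≠ 1)
    (hyp : ¬ p ∣ orderOf y) (hyU : y ∈ normalizer (U : Set G))
    (hyV : y ∈ normalizer (V : Set G)) (hUV : U ≤ normalizer (V : Set G))
    (hfree : ∀ z ∈ zpowers y, z ≠ 1 → U ⊓ centralizer {z} = ⊥)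
    (hfix : V ⊓ centralizer {y} = ⊥) : U ≤ centralizer (V : Set G) := by
  have hpf : Fact p.Prime := ⟨hp⟩
  have hqf : Fact q.Prime := ⟨hq⟩
  have hUE : U ⊓ zpowers y = ⊥ := by
    rw [eq_bot_iff]
    rintro z ⟨hzU, hzy⟩
    by_contra hz1
    rw [mem_bot] at hz1
    have h1 : z ∈ U ⊓ centralizer {z} := mem_fix.mpr ⟨hzU, Commute.refl z⟩
    rw [hfree z hzy hz1] at h1
    exact hz1 h1
  have hyn : zpowers y ≤ normalizer (U : Set G) := by rwa [zpowers_le]
  have hcardUE : Nat.card ↥(U ⊔ zpowers y) ∣ Nat.card U * Nat.card (zpowers y) :=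
    Cfsg.Agent.SignalizersComponents.CoprimeBasic.card_sup_dvd hyn
  have hcop : (Nat.card V).Coprime (Nat.card ↥(U ⊔ zpowers y)) := by
    refine Nat.Coprime.coprime_dvd_right hcardUE ?_
    refine Nat.Coprime.mul_right ?_ ?_
    · exact coprime_pow_card hp hV (not_dvd_card hq hp (Ne.symm hqp) hU)
    · rw [Nat.card_zpowers]; exact coprime_pow_card hp hV hyp
  have hnV : U ⊔ zpowers y ≤ normalizer (V : Set G) := sup_le hUV (by rwa [zpowers_le])
  have hVn := hV.isNilpotent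
  have key := Cfsg.Agent.S1545.result U (zpowers y) V hU1
    (by rw [Ne, zpowers_eq_bot]; exact hy1) hUE
    (fun e he u hu => (mem_normalizer_iff.mp (hyn he) u).mp hu)
    (fun e he he1 u hu heu => by
      have h1 : u ∈ U ⊓ centralizer {e} := mem_fix.mpr ⟨hu, heu⟩
      rw [hfree e he he1] at h1
      exact h1)
    (fun x hx h hh => (mem_normalizer_iff.mp (hnV hx) h).mp hh)
    (Cfsg.Agent.OddOrderLocal.FitCores.disjoint_of_coprime hcop) (by infer_instance) hcop
  have h1 : V ⊓ centralizer ((zpowers y : Subgroup G) : Set G) = ⊥ := by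
    rw [Cfsg.Agent.SignalizersComponents.LocalGlobal.centralizer_zpowers_eq]; exact hfix
  have h2 : V ⊓ centralizer ((U ⊔ zpowers y : Subgroup G) : Set G) = ⊥ := by
    rw [eq_bot_iff, ← h1]
    exact inf_le_inf_left _ (centralizer_le (SetLike.coe_subset_coe.mpr le_sup_right))
  rw [h1, h2, Nat.card_unique, one_pow, one_mul, one_mul] at key
  have h3 : V ⊓ centralizer (U : Set G) = V := by
    apply Subgroup.eq_of_le_of_card_ge inf_le_left
    exact key.le
  have h4 : V ≤ centralizer (U : Set G) := inf_eq_left.mp h3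
  rwa [le_centralizer_iff] at h4

/-- the prime order case of `frob` -/
theorem frob_prime {q p r : ℕ} (hq : q.Prime) (hp : p.Prime) (hr : r.Prime) (hqp : q ≠ p)
    (hrp : r ≠ p) {U V : Subgroup G} {y : G} (hU : IsPGroup q U) (hV : IsPGroup p V)
    (hU1 : U ≠ ⊥) (hy : orderOf y = r) (hyU : y ∈ normalizer (U : Set G))
    (hyV : y ∈ normalizer (V : Set G)) (hUV : U ≤ normalizer (V : Set G))
    (hfree : U ⊓ centralizer {y} = ⊥) (hfix : V ⊓ centralizer {y} = ⊥) :
    U ≤ centralizer (V : Set G) := by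
  refine frob hq hp hqp hU hV hU1 ?_ ?_ hyU hyV hUV ?_ hfix
  · rintro rfl
    rw [orderOf_one] at hy
    exact hr.one_lt.ne hy
  · rw [hy]
    intro h
    exact hrp ((Nat.prime_dvd_prime_iff_eq hp hr).mp h).symm
  · intro z hz hz1
    have hzr : orderOf z = r := by
      have : Fact r.Prime := ⟨hr⟩
      apply orderOf_eq_prime _ hz1
      obtain ⟨n, rfl⟩ := mem_zpowers_iff.mp hz
      rw [← zpow_natCast, ← zpow_mul, mul_comm, zpow_mul, zpow_natCast, pow_eq_one hy, one_zpow]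
    have h1 := zpowers_eq_of_mem hy hzr hz
    rw [eq_bot_iff, ← hfree]
    apply inf_le_inf_left
    intro w hw
    rw [mem_cent_iff] at hw ⊢
    obtain ⟨n, hn⟩ := mem_zpowers_iff.mp h1
    rw [← hn]
    exact hw.zpow_left n

/-- the case of a product of two commuting elements of different prime orders -/
theorem frob_two {q p r s : ℕ} (hq : q.Prime) (hp : p.Prime) (hr : r.Prime) (hs : s.Prime)
    (hqp : q ≠ p) (hrp : r ≠ p) (hsp : s ≠ p) (hrs : r ≠ s) {U V : Subgroup G} {g h : G}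
    (hU : IsPGroup q U) (hV : IsPGroup p V) (hU1 : U ≠ ⊥) (hg : orderOf g = r)
    (hh : orderOf h = s) (hgh : Commute g h) (hgU : g ∈ normalizer (U : Set G))
    (hhU : h ∈ normalizer (U : Set G)) (hgV : g ∈ normalizer (V : Set G))
    (hhV : h ∈ normalizer (V : Set G)) (hUV : U ≤ normalizer (V : Set G))
    (hfg : U ⊓ centralizer {g} = ⊥) (hfh : U ⊓ centralizer {h} = ⊥)
    (hfix : V ⊓ centralizer {g * h} = ⊥) : U ≤ centralizer (V : Set G) := by
  have hcop : r.Coprime s := (Nat.coprime_primes hr hs).mpr hrs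
  have ho : orderOf (g * h) = r * s := orderOf_mul hgh hg hh hcop
  refine frob hq hp hqp hU hV hU1 ?_ ?_ (mul_mem hgU hhU) (mul_mem hgV hhV) hUV ?_ hfix
  · intro h1
    rw [h1, orderOf_one] at ho
    have := Nat.mul_lt_mul'' hr.one_lt hs.one_lt
    omega
  · rw [ho]
    intro hd
    rcases (Nat.Prime.dvd_mul hp).mp hd with h1 | h1
    · exact hrp ((Nat.prime_dvd_prime_iff_eq hp hr).mp h1).symm
    · exact hsp ((Nat.prime_dvd_prime_iff_eq hp hs).mp h1).symm
  · -- a nontrivial power has a power generating `⟨g⟩` or `⟨h⟩`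
    have aux : ∀ {t : ℕ} {w z : G}, t.Prime → orderOf w = t → U ⊓ centralizer {w} = ⊥ → z ∈ zpowers w →
        z ≠ 1 → U ⊓ centralizer {z} = ⊥ := by
      intro t w z ht hw hf hz hz1
      have hzr : orderOf z = t := by
        have : Fact t.Prime := ⟨ht⟩
        apply orderOf_eq_prime _ hz1
        obtain ⟨n, rfl⟩ := mem_zpowers_iff.mp hz
        rw [← zpow_natCast, ← zpow_mul, mul_comm, zpow_mul, zpow_natCast, pow_eq_one hw, one_zpow]
      have h1 := zpowers_eq_of_mem hw hzr hz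
      rw [eq_bot_iff, ← hf]
      apply inf_le_inf_left
      intro c hc
      rw [mem_cent_iff] at hc ⊢
      obtain ⟨n, hn⟩ := mem_zpowers_iff.mp h1
      rw [← hn]
      exact hc.zpow_left n
    intro z hz hz1
    obtain ⟨n, rfl⟩ := mem_zpowers_iff.mp hz
    have e1 : ((g * h) ^ n) ^ s = g ^ (n * s) := by
      rw [← zpow_natCast, ← zpow_mul, hgh.mul_zpow, mul_comm n (s : ℤ), zpow_mul h, zpow_natCast,
        pow_eq_one hh, one_zpow, mul_one]
    by_cases h2 : g ^ (n * s) = 1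
    · -- then `g ^ n = 1`
      have h3 : (r : ℤ) ∣ n := by
        rw [← orderOf_dvd_iff_zpow_eq_one, hg] at h2
        refine IsCoprime.dvd_of_dvd_mul_right ?_ h2
        rw [Nat.isCoprime_iff_coprime]
        exact hcop
      have h4 : g ^ n = 1 := by
        rw [← orderOf_dvd_iff_zpow_eq_one, hg]; exact h3
      have h5 : (g * h) ^ n = h ^ n := by rw [hgh.mul_zpow, h4, one_mul]
      rw [h5] at hz1 ⊢
      exact aux hs hh hfh (zpow_mem (mem_zpowers h) n) hz1
    · rw [eq_bot_iff, ← aux hr hg hfg (zpow_mem (mem_zpowers g) (n * s)) h2]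
      apply inf_le_inf_left
      intro c hc
      rw [mem_cent_iff] at hc ⊢
      rw [← e1]
      exact hc.pow_left s

/-- criterion for an element of `K` to lie in `F(K)` -/
theorem mem_fitting {K : Subgroup G} (hK : Group.IsSolvable K) {g : G} (hg : g ∈ K)
    (h : ∀ q : ℕ, q.Prime → piCoreOf {q} K ≤ centralizer ({g} : Set G)) : g ∈ fittingOf K := by
  apply Cfsg.Agent.OddOrderLocal.FitCores.inf_centralizer_fittingOf_le hK
  refine mem_inf.mpr ⟨hg, ?_⟩
  have h1 : fittingOf K ≤ centralizer ({g} : Set G) :=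
    Cfsg.Agent.OddOrderLocal.FitCores.fittingOf_le_iff.mpr h
  rw [mem_centralizer_iff]
  intro x hx
  have := mem_centralizer_iff.mp (h1 hx) g rfl
  exact this.symm

end Finite

end Cfsg.Agent.H381.Tools
end

-- part: H381/Lucido
section
set_option linter.all false
open scoped Cfsg.Agent.FastGrp

/-!
# Three primes dividing the order of a solvable group (Lucido)

A solvable group whose order is divisible by three different primes has an element whose order is the
product of two of them.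
-/

set_option autoImplicit false
set_option linter.unusedSectionVars false

namespace Cfsg.Agent.H381.Lucido

open Subgroup
open Cfsg (piCoreOf fittingOf IsPiHallOf)
open Cfsg.Agent.H381.Tools
open Cfsg.Agent.OddOrderLocal.PiCoreOf (piCoreOf_le le_normalizer_piCoreOf)
open Cfsg.Agent.OddOrderLocal.FitCores (isPGroup_piCoreOf core_le_centralizer_core)

universe u

variable {G : Type u} [Group G] [Finite G]

/-- adjacency in the prime graph of a subgroup -/
def Edge (M : Subgroup G) (a b : ℕ) : Prop :=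
  ∃ x ∈ M, ∃ y ∈ M, Commute x y ∧ orderOf x = a ∧ orderOf y = b

theorem Edge.symm {M : Subgroup G} {a b : ℕ} (h : Edge M a b) : Edge M b a := by
  obtain ⟨x, hx, y, hy, h1, h2, h3⟩ := h
  exact ⟨y, hy, x, hx, h1.symm, h3, h2⟩

theorem Edge.mono {M N : Subgroup G} {a b : ℕ} (h : Edge M a b) (hMN : M ≤ N) : Edge N a b := by
  obtain ⟨x, hx, y, hy, h1⟩ := h
  exact ⟨x, hMN hx, y, hMN hy, h1⟩

theorem edge_of_fix {M V : Subgroup G} {v w : ℕ} (hv : v.Prime) (hV : IsPGroup v V) (hVM : V ≤ M)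
    {h : G} (hh : h ∈ M) (hw : orderOf h = w) (hne : V ⊓ centralizer {h} ≠ ⊥) : Edge M v w := by
  obtain ⟨x, hx, hxv⟩ := exists_mem_of_ne_bot hv (hV.to_le inf_le_left) hne
  rw [mem_fix] at hx
  exact ⟨x, hVM hx.1, h, hh, hx.2.symm, hxv, hw⟩

/-- `O_q(H) = 1` if `q` does not divide the order -/
theorem piCoreOf_eq_bot {q : ℕ} (hq : q.Prime) {H : Subgroup G} (h : ¬ q ∣ Nat.card H) :
    piCoreOf {q} H = ⊥ := by
  by_contra hne
  obtain ⟨x, hx, hxq⟩ := exists_mem_of_ne_bot hq (isPGroup_piCoreOf hq H) hne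
  exact h (dvd_card_of_mem (piCoreOf_le _ _ hx) hxq)

theorem fitting_le {H : Subgroup G} {K : Subgroup G}
    (h : ∀ q : ℕ, q.Prime → q ∣ Nat.card H → piCoreOf {q} H ≤ K) : fittingOf H ≤ K := by
  rw [Cfsg.Agent.OddOrderLocal.FitCores.fittingOf_le_iff]
  intro q hq
  by_cases hd : q ∣ Nat.card H
  · exact h q hq hd
  · rw [piCoreOf_eq_bot hq hd]; exact bot_le

/-- an element of `H` commuting with all `O_q(H)`, `q ∣ |H|`, lies in `F(H)` -/
theorem mem_fitting' {H : Subgroup G} (hH : Group.IsSolvable H) {g : G} (hg : g ∈ H)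
    (h : ∀ q : ℕ, q.Prime → q ∣ Nat.card H → g ∈ centralizer (piCoreOf {q} H : Set G)) :
    g ∈ fittingOf H := by
  apply mem_fitting hH hg
  intro q hq
  by_cases hd : q ∣ Nat.card H
  · intro x hx
    rw [mem_cent_iff]
    have h1 : x * g = g * x := mem_centralizer_iff.mp (h q hq hd) x hx
    exact h1.symm
  · rw [piCoreOf_eq_bot hq hd]; exact bot_le

theorem lucido_core {H : Subgroup G} (hH : Group.IsSolvable H) {u v w : ℕ} (hu : u.Prime)
    (hv : v.Prime) (hw : w.Prime) (huv : u ≠ v) (huw : u ≠ w) (hvw : v ≠ w)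
    (hpi : ∀ q : ℕ, q.Prime → q ∣ Nat.card H → q = u ∨ q = v ∨ q = w) (hvH : v ∣ Nat.card H)
    (hwH : w ∣ Nat.card H) (hO : piCoreOf {u} H ≠ ⊥) : Edge H u v ∨ Edge H u w ∨ Edge H v w := by
  set A := piCoreOf {u} H with hA
  have hAp : IsPGroup u A := isPGroup_piCoreOf hu H
  have hAH : A ≤ H := piCoreOf_le _ _
  have hHA : H ≤ normalizer (A : Set G) := le_normalizer_piCoreOf _ _
  by_cases hv1 : piCoreOf {v} H = ⊥
  swap
  · left
    obtain ⟨x, hx, hxu⟩ := exists_mem_of_ne_bot hu hAp hO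
    obtain ⟨y, hy, hyv⟩ := exists_mem_of_ne_bot hv (isPGroup_piCoreOf hv H) hv1
    have h1 := mem_centralizer_iff.mp (core_le_centralizer_core hu hv huv H hx) y hy
    exact ⟨x, hAH hx, y, piCoreOf_le _ _ hy, h1.symm, hxu, hyv⟩
  by_cases hw1 : piCoreOf {w} H = ⊥
  swap
  · right; left
    obtain ⟨x, hx, hxu⟩ := exists_mem_of_ne_bot hu hAp hO
    obtain ⟨y, hy, hyv⟩ := exists_mem_of_ne_bot hw (isPGroup_piCoreOf hw H) hw1
    have h1 := mem_centralizer_iff.mp (core_le_centralizer_core hu hw huw H hx) y hy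
    exact ⟨x, hAH hx, y, piCoreOf_le _ _ hy, h1.symm, hxu, hyv⟩
  -- faithful action on `A`
  have hcA : ∀ g ∈ H, g ∈ centralizer (A : Set G) → g ∈ A := by
    intro g hg hgA
    have h1 : g ∈ fittingOf H := by
      apply mem_fitting' hH hg
      intro q hq hqd
      rcases hpi q hq hqd with rfl | rfl | rfl
      · exact hgA
      · rw [hv1]; rw [mem_centralizer_iff]; intro x hx; rw [SetLike.mem_coe, mem_bot] at hx
        rw [hx, one_mul, mul_one]
      · rw [hw1]; rw [mem_centralizer_iff]; intro x hx; rw [SetLike.mem_coe, mem_bot] at hx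
        rw [hx, one_mul, mul_one]
    refine (fitting_le (K := A) ?_) h1
    intro q hq hqd
    rcases hpi q hq hqd with rfl | rfl | rfl
    · exact le_rfl
    · rw [hv1]; exact bot_le
    · rw [hw1]; exact bot_le
  -- a Hall `{v, w}`-subgroup
  obtain ⟨K, hK⟩ := Cfsg.Agent.OddOrderLocal.HallPi.exists_isPiHallOf hH ({v, w} : Set ℕ)
  have hKH : K ≤ H := hK.1
  have hKpi : ∀ q : ℕ, q.Prime → q ∣ Nat.card K → q = v ∨ q = w := by
    intro q hq hqd
    have := hK.2.1 q hq hqd
    simpa using this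
  have hKs : Group.IsSolvable K :=
    Group.isSolvable_of_isSolvable_injective (f := Subgroup.inclusion hKH) (Subgroup.inclusion_injective hKH)
  have hvK : v ∣ Nat.card K := Cfsg.Agent.OddOrderLocal.HallPi.prime_dvd_card hK hv (by simp) hvH
  have hwK : w ∣ Nat.card K := Cfsg.Agent.OddOrderLocal.HallPi.prime_dvd_card hK hw (by simp) hwH
  have key : ∀ {a b : ℕ}, a.Prime → b.Prime → a ≠ b → u ≠ a → u ≠ b → b ∣ Nat.card K →
      piCoreOf {a} K ≠ ⊥ → Edge H a b ∨ Edge H u b := by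
    intro a b ha hb hab hua hub hbK hne
    set N := piCoreOf {a} K with hN
    have hNp : IsPGroup a N := isPGroup_piCoreOf ha K
    have hNK : N ≤ K := piCoreOf_le _ _
    obtain ⟨h, hhK, hhb⟩ := exists_mem_of_dvd hb hbK
    by_cases h1 : N ⊓ centralizer {h} = ⊥
    · right
      by_cases h2 : A ⊓ centralizer {h} = ⊥
      · exfalso
        have h3 := frob_prime ha hu hb (Ne.symm hua) (Ne.symm hub) hNp hAp hne hhb
          (le_normalizer_piCoreOf _ _ hhK) (hHA (hKH hhK)) ((hNK.trans hKH).trans hHA) h1 h2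
        obtain ⟨x, hx, hxa⟩ := exists_mem_of_ne_bot ha hNp hne
        have h4 := hcA x (hKH (hNK hx)) (h3 hx)
        exact not_dvd_card hu ha (Ne.symm hua) hAp (dvd_card_of_mem h4 hxa)
      · exact edge_of_fix hu hAp hAH (hKH hhK) hhb h2
    · left
      exact edge_of_fix ha hNp (hNK.trans hKH) (hKH hhK) hhb h1
  -- `O_v(K) ≠ 1` or `O_w(K) ≠ 1`
  have hor : piCoreOf {v} K ≠ ⊥ ∨ piCoreOf {w} K ≠ ⊥ := by
    by_contra hcon
    push Not at hcon
    have hF : fittingOf K ≤ ⊥ := by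
      apply fitting_le
      intro q hq hqd
      rcases hKpi q hq hqd with rfl | rfl
      · rw [hcon.1]
      · rw [hcon.2]
    obtain ⟨x, hx, hxv⟩ := exists_mem_of_dvd hv hvK
    have h1 : x ∈ fittingOf K := by
      apply mem_fitting' hKs hx
      intro q hq hqd
      have h2 : piCoreOf {q} K = ⊥ := by
        rcases hKpi q hq hqd with rfl | rfl
        · exact hcon.1
        · exact hcon.2
      rw [h2, mem_centralizer_iff]
      intro y hy
      rw [SetLike.mem_coe, mem_bot] at hy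
      rw [hy, one_mul, mul_one]
    have h2 := hF h1
    rw [mem_bot] at h2
    rw [h2, orderOf_one] at hxv
    exact hv.one_lt.ne hxv
  rcases hor with h | h
  · rcases key hv hw hvw huv huw hwK h with h1 | h1
    · exact Or.inr (Or.inr h1)
    · exact Or.inr (Or.inl h1)
  · rcases key hw hv (Ne.symm hvw) huw huv hvK h with h1 | h1
    · exact Or.inr (Or.inr h1.symm)
    · exact Or.inl h1

/-- **Lucido's lemma.** -/
theorem lucido {M : Subgroup G} (hM : Group.IsSolvable M) {a b c : ℕ} (ha : a.Prime) (hb : b.Prime)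
    (hc : c.Prime) (hab : a ≠ b) (hac : a ≠ c) (hbc : b ≠ c) (haM : a ∣ Nat.card M)
    (hbM : b ∣ Nat.card M) (hcM : c ∣ Nat.card M) : Edge M a b ∨ Edge M a c ∨ Edge M b c := by
  obtain ⟨H, hH⟩ := Cfsg.Agent.OddOrderLocal.HallPi.exists_isPiHallOf hM ({a, b, c} : Set ℕ)
  have hHM : H ≤ M := hH.1
  have hHs : Group.IsSolvable H :=
    Group.isSolvable_of_isSolvable_injective (f := Subgroup.inclusion hHM) (Subgroup.inclusion_injective hHM)
  have hpi : ∀ q : ℕ, q.Prime → q ∣ Nat.card H → q = a ∨ q = b ∨ q = c := by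
    intro q hq hqd
    have := hH.2.1 q hq hqd
    simpa using this
  have haH : a ∣ Nat.card H := Cfsg.Agent.OddOrderLocal.HallPi.prime_dvd_card hH ha (by simp) haM
  have hbH : b ∣ Nat.card H := Cfsg.Agent.OddOrderLocal.HallPi.prime_dvd_card hH hb (by simp) hbM
  have hcH : c ∣ Nat.card H := Cfsg.Agent.OddOrderLocal.HallPi.prime_dvd_card hH hc (by simp) hcM
  have hor : piCoreOf {a} H ≠ ⊥ ∨ piCoreOf {b} H ≠ ⊥ ∨ piCoreOf {c} H ≠ ⊥ := by
    by_contra hcon
    push Not at hcon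
    obtain ⟨x, hx, hxv⟩ := exists_mem_of_dvd ha haH
    have hbot : ∀ q : ℕ, q.Prime → q ∣ Nat.card H → piCoreOf {q} H = ⊥ := by
      intro q hq hqd
      rcases hpi q hq hqd with rfl | rfl | rfl
      · exact hcon.1
      · exact hcon.2.1
      · exact hcon.2.2
    have hF : fittingOf H ≤ ⊥ := fitting_le fun q hq hqd => (hbot q hq hqd).le
    have h1 : x ∈ fittingOf H := by
      apply mem_fitting' hHs hx
      intro q hq hqd
      rw [hbot q hq hqd, mem_centralizer_iff]
      intro y hy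
      rw [SetLike.mem_coe, mem_bot] at hy
      rw [hy, one_mul, mul_one]
    have h2 := hF h1
    rw [mem_bot] at h2
    rw [h2, orderOf_one] at hxv
    exact ha.one_lt.ne hxv
  rcases hor with h | h | h
  · rcases lucido_core hHs ha hb hc hab hac hbc hpi hbH hcH h with h1 | h1 | h1
    · exact Or.inl (h1.mono hHM)
    · exact Or.inr (Or.inl (h1.mono hHM))
    · exact Or.inr (Or.inr (h1.mono hHM))
  · rcases lucido_core hHs hb ha hc (Ne.symm hab) hbc hac
      (fun q hq hqd => by rcases hpi q hq hqd with h | h | h <;> tauto) haH hcH h with h1 | h1 | h1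
    · exact Or.inl (h1.symm.mono hHM)
    · exact Or.inr (Or.inr (h1.mono hHM))
    · exact Or.inr (Or.inl (h1.mono hHM))
  · rcases lucido_core hHs hc ha hb (Ne.symm hac) (Ne.symm hbc) hab
      (fun q hq hqd => by rcases hpi q hq hqd with h | h | h <;> tauto) haH hbH h with h1 | h1 | h1
    · exact Or.inr (Or.inl (h1.symm.mono hHM))
    · exact Or.inr (Or.inr (h1.symm.mono hHM))
    · exact Or.inl (h1.mono hHM)

end Cfsg.Agent.H381.Lucido
end

-- part: H381/CritA2
section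
prune_inst 0x2000000001c000000000000200001c4692000430004b00013800040004865e2180002e60f0201e0013008225003f800810dc00590018000020008200411801a0042a26c20140b10801000640f887180c00000000000000000000000000041000000000000
set_option linter.all false
open scoped Cfsg.Agent.FastGrp

-- part: H381/Criterion
section
/-!
# A nonsolvability criterion from element orders

`G` solvable, four primes such that all pairwise products are element orders, but no product of three
of them: impossible (under the Hall-Higman type hypothesis `NoFixed`, which excludes the pairs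
`(2, Fermat prime)`).
-/

set_option autoImplicit false
set_option linter.unusedSectionVars false

namespace Cfsg.Agent.H381.Criterion

open Subgroup
open Cfsg (piCoreOf fittingOf IsPiHallOf)
open Cfsg.Agent.H381.Tools
open Cfsg.Agent.H381.Lucido
open Cfsg.Agent.OddOrderLocal.PiCoreOf (piCoreOf_le le_normalizer_piCoreOf)
open Cfsg.Agent.OddOrderLocal.FitCores (isPGroup_piCoreOf core_le_centralizer_core)
open Cfsg.Agent.SignalizersComponents.LocalGlobal (NoFixed)

universe u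

/-- The configuration: a solvable `σ`-group with `σ` four primes, pairwise but not triply joined. -/
structure Cfg (G : Type u) [Group G] (σ : Set ℕ) : Prop where
  solv : Group.IsSolvable G
  prime : ∀ p ∈ σ, p.Prime
  pair : ∀ p ∈ σ, ∀ q ∈ σ, p ≠ q → ∃ g : G, orderOf g = p * q
  triple : ∀ p ∈ σ, ∀ q ∈ σ, ∀ r ∈ σ, p ≠ q → q ≠ r → p ≠ r → ∀ g : G, orderOf g ≠ p * q * r
  nf : ∀ p ∈ σ, ∀ q ∈ σ, p ≠ q → NoFixed.{u} q {p}

/-- `p, q, r, s` are the four primes of `σ`. -/
structure Four (σ : Set ℕ) (p q r s : ℕ) : Prop where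
  mp : p ∈ σ
  mq : q ∈ σ
  mr : r ∈ σ
  ms : s ∈ σ
  pq : p ≠ q
  pr : p ≠ r
  ps : p ≠ s
  qr : q ≠ r
  qs : q ≠ s
  rs : r ≠ s
  all : ∀ x ∈ σ, x = p ∨ x = q ∨ x = r ∨ x = s

namespace Four

variable {σ : Set ℕ} {p q r s : ℕ}

theorem swap12 (h : Four σ p q r s) : Four σ q p r s :=
  ⟨h.mq, h.mp, h.mr, h.ms, h.pq.symm, h.qr, h.qs, h.pr, h.ps, h.rs, fun x hx => by
    rcases h.all x hx with h | h | h | h <;> tauto⟩

theorem swap23 (h : Four σ p q r s) : Four σ p r q s :=
  ⟨h.mp, h.mr, h.mq, h.ms, h.pr, h.pq, h.ps, h.qr.symm, h.rs, h.qs, fun x hx => by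
    rcases h.all x hx with h | h | h | h <;> tauto⟩

theorem swap34 (h : Four σ p q r s) : Four σ p q s r :=
  ⟨h.mp, h.mq, h.ms, h.mr, h.pq, h.ps, h.pr, h.qs, h.qr, h.rs.symm, fun x hx => by
    rcases h.all x hx with h | h | h | h <;> tauto⟩

end Four

variable {G : Type u} [Group G] [Finite G] {σ : Set ℕ} {p q r s : ℕ}

section Basic

theorem Cfg.coprime (C : Cfg G σ) {a b : ℕ} (ha : a ∈ σ) (hb : b ∈ σ) (hab : a ≠ b) : a.Coprime b :=
  (Nat.coprime_primes (C.prime a ha) (C.prime b hb)).mpr hab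

/-- three commuting elements of different prime orders -/
theorem Cfg.no3 (C : Cfg G σ) {a b c : ℕ} (ha : a ∈ σ) (hb : b ∈ σ) (hc : c ∈ σ) (hab : a ≠ b)
    (hbc : b ≠ c) (hac : a ≠ c) {x y z : G} (hx : orderOf x = a) (hy : orderOf y = b)
    (hz : orderOf z = c) (hxy : Commute x y) (hxz : Commute x z) (hyz : Commute y z) : False :=
  C.triple a ha b hb c hc hab hbc hac (x * y * z)
    (orderOf_mul3 hxy hxz hyz hx hy hz (C.coprime ha hb hab) (C.coprime ha hc hac)
      (C.coprime hb hc hbc))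

/-- no fixed points on a third group -/
theorem Cfg.no_fix (C : Cfg G σ) {a b c : ℕ} (ha : a ∈ σ) (hb : b ∈ σ) (hc : c ∈ σ) (hab : a ≠ b)
    (hbc : b ≠ c) (hac : a ≠ c) {x y : G} {V : Subgroup G} (hx : orderOf x = a)
    (hy : orderOf y = b) (hxy : Commute x y) (hV : IsPGroup c V) :
    V ⊓ centralizer {x} ⊓ centralizer {y} = ⊥ := by
  by_contra hne
  obtain ⟨z, hz, hzc⟩ := exists_mem_of_ne_bot (C.prime c hc)
    (hV.to_le (inf_le_left.trans inf_le_left)) hne
  rw [mem_fix, mem_fix] at hz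
  exact C.no3 ha hb hc hab hbc hac hx hy hzc hxy hz.1.2 hz.2

theorem Cfg.not_edge (C : Cfg G σ) {a b c : ℕ} (ha : a ∈ σ) (hb : b ∈ σ) (hc : c ∈ σ) (hab : a ≠ b)
    (hbc : b ≠ c) (hac : a ≠ c) {h : G} (hh : orderOf h = c) : ¬ Edge (centralizer {h}) a b := by
  rintro ⟨x, hx, y, hy, hxy, hxa, hyb⟩
  rw [mem_cent_iff] at hx hy
  exact C.no3 ha hb hc hab hbc hac hxa hyb hh hxy hx.symm hy.symm

/-- **(P)**: an element of prime order has at most two further primes in its centraliser. -/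
theorem Cfg.not_all (C : Cfg G σ) (F : Four σ p q r s) {h : G} (hh : orderOf h = p)
    (hq : q ∣ Nat.card (centralizer {h} : Subgroup G))
    (hr : r ∣ Nat.card (centralizer {h} : Subgroup G))
    (hs : s ∣ Nat.card (centralizer {h} : Subgroup G)) : False := by
  have hsol : Group.IsSolvable G := C.solv
  rcases lucido (M := centralizer {h}) inferInstance (C.prime q F.mq) (C.prime r F.mr)
    (C.prime s F.ms) F.qr F.qs F.rs hq hr hs with h1 | h1 | h1
  · exact C.not_edge F.mq F.mr F.mp F.qr F.pr.symm F.pq.symm hh h1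
  · exact C.not_edge F.mq F.ms F.mp F.qs F.ps.symm F.pq.symm hh h1
  · exact C.not_edge F.mr F.ms F.mp F.rs F.ps.symm F.pr.symm hh h1

/-- fixed points of `h` on an `a`-group give `a ∣ |C(h)|` -/
theorem dvd_cent_of_fix {a : ℕ} (ha : a.Prime) {V : Subgroup G} (hV : IsPGroup a V) {h : G}
    (hne : V ⊓ centralizer {h} ≠ ⊥) : a ∣ Nat.card (centralizer {h} : Subgroup G) := by
  obtain ⟨x, hx, hxa⟩ := exists_mem_of_ne_bot ha (hV.to_le inf_le_left) hne
  exact dvd_card_of_mem (mem_inf.mp hx).2 hxa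

theorem dvd_cent_of_comm {a : ℕ} {x h : G} (hx : orderOf x = a) (hxh : Commute h x) :
    a ∣ Nat.card (centralizer {h} : Subgroup G) :=
  dvd_card_of_mem (mem_cent_iff.mpr hxh) hx

/-- **(P2)**: a Sylow subgroup has at least two subgroups of prime order. -/
theorem Cfg.exists_other (C : Cfg G σ) (F : Four σ p q r s) {S : Subgroup G}
    (hS : IsPiHallOf {p} S ⊤) {z : G} (hzp : orderOf z = p) :
    ∃ z' ∈ S, orderOf z' = p ∧ z' ∉ zpowers z := by
  have hsol : Group.IsSolvable G := C.solv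
  by_contra hcon
  push Not at hcon
  have hpp := C.prime p F.mp
  -- every other prime divides `|C(z)|`
  have key : ∀ a ∈ σ, a ≠ p → a ∣ Nat.card (centralizer {z} : Subgroup G) := by
    intro a ha hap
    obtain ⟨g, hg⟩ := C.pair p F.mp a ha hap.symm
    obtain ⟨x, y, hxy, hx, hy⟩ := exists_pair hpp.ne_zero (C.prime a ha).ne_zero hg
    -- conjugate `x` into `S`
    obtain ⟨m, -, hm⟩ := Cfsg.Agent.OddOrderLocal.HallPi.exists_conj_le_of_isPiHallOf
      (M := ⊤) inferInstance hS (X := zpowers x) le_top (by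
        intro t ht htd
        rw [Nat.card_zpowers, hx] at htd
        rw [Set.mem_singleton_iff]
        exact (Nat.prime_dvd_prime_iff_eq ht hpp).mp htd)
    have h1 : m * x * m⁻¹ ∈ S := hm ⟨x, mem_zpowers x, rfl⟩
    have h2 : orderOf (m * x * m⁻¹) = p := by
      rw [← hx]; exact (MulAut.conj m).orderOf_eq x
    have h3 := hcon _ h1 h2
    have h4 := zpowers_eq_of_mem hzp h2 h3
    have h5 : orderOf (m * y * m⁻¹) = a := by
      rw [← hy]; exact (MulAut.conj m).orderOf_eq y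
    apply dvd_cent_of_comm h5
    obtain ⟨n, hn⟩ := mem_zpowers_iff.mp h4
    rw [← hn]
    have h6 : Commute (m * x * m⁻¹) (m * y * m⁻¹) := by
      have : m * x * m⁻¹ * (m * y * m⁻¹) = m * y * m⁻¹ * (m * x * m⁻¹) := by
        calc m * x * m⁻¹ * (m * y * m⁻¹) = m * (x * y) * m⁻¹ := by group
          _ = m * (y * x) * m⁻¹ := by rw [hxy.eq]
          _ = _ := by group
      exact this
    exact h6.zpow_left n
  exact C.not_all F hzp (key q F.mq F.pq.symm) (key r F.mr F.pr.symm) (key s F.ms F.ps.symm)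

/-- the version of `exists_fixed` giving a contradiction: two independent elements of order `a`
commuting with `y` of order `b` -/
theorem Cfg.fix_eq_bot (C : Cfg G σ) {a b c : ℕ} (ha : a ∈ σ) (hb : b ∈ σ) (hc : c ∈ σ)
    (hab : a ≠ b) (hbc : b ≠ c) (hac : a ≠ c) {e e' y : G} {V : Subgroup G} (he : orderOf e = a)
    (he' : orderOf e' = a) (hee' : Commute e e') (hne : e' ∉ zpowers e) (hy : orderOf y = b)
    (hey : Commute e y) (hey' : Commute e' y) (hV : IsPGroup c V)
    (heV : e ∈ normalizer (V : Set G)) (heV' : e' ∈ normalizer (V : Set G)) :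
    V ⊓ centralizer {y} = ⊥ := by
  by_contra hcon
  have hn : ∀ w : G, Commute w y → w ∈ normalizer (V : Set G) →
      w ∈ normalizer ((V ⊓ centralizer {y} : Subgroup G) : Set G) := by
    intro w hw hwV
    rw [mem_normalizer_iff]
    intro v
    rw [mem_fix, mem_fix, mem_normalizer_iff.mp hwV v]
    constructor
    · rintro ⟨h2, h3⟩
      exact ⟨h2, (hw.symm.mul_right h3).mul_right hw.symm.inv_right⟩
    · rintro ⟨h2, h3⟩
      refine ⟨h2, ?_⟩
      have h4 : v = w⁻¹ * (w * v * w⁻¹) * w := by group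
      rw [h4]
      exact (hw.symm.inv_right.mul_right h3).mul_right hw.symm
  obtain ⟨f, hf, hfa, hff⟩ := exists_fixed (C.prime a ha) he he' hee' hne (V ⊓ centralizer {y})
    (not_dvd_card (C.prime c hc) (C.prime a ha) hac (hV.to_le inf_le_left)) hcon
    (hn e hey heV) (hn e' hey' heV')
  apply hff
  have hfy : Commute f y := by
    have h1 : zpowers e ⊔ zpowers e' ≤ centralizer {y} := by
      rw [sup_le_iff, zpowers_le, zpowers_le]
      exact ⟨mem_cent_iff.mpr hey.symm, mem_cent_iff.mpr hey'.symm⟩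
    exact (mem_cent_iff.mp (h1 hf)).symm
  exact C.no_fix hb ha hc hab.symm hac hbc hy hfa hfy.symm hV

/-- a Sylow subgroup has two independent commuting elements of prime order; the first one can be chosen
as any given element of prime order of its centre -/
theorem Cfg.exists_indep (C : Cfg G σ) (F : Four σ p q r s) {S : Subgroup G}
    (hS : IsPiHallOf {p} S ⊤) (hSp : IsPGroup p S) :
    ∃ e ∈ S, ∃ e' ∈ S, orderOf e = p ∧ orderOf e' = p ∧ Commute e e' ∧ e' ∉ zpowers e := by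
  have hpp := C.prime p F.mp
  have hpf : Fact p.Prime := ⟨hpp⟩
  have hS1 : S ≠ ⊥ := by
    rintro rfl
    obtain ⟨g, hg⟩ := C.pair p F.mp q F.mq F.pq
    have h1 : p ∣ Nat.card (⊤ : Subgroup G) := by
      rw [card_top]
      exact (dvd_mul_right p q).trans (hg ▸ orderOf_dvd_natCard g)
    have h2 := Cfsg.Agent.OddOrderLocal.HallPi.prime_dvd_card hS hpp (Set.mem_singleton p) h1
    rw [card_bot, Nat.dvd_one] at h2
    exact hpp.one_lt.ne' h2
  have : Nontrivial S := (nontrivial_iff_ne_bot S).mpr hS1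
  have hc : Nontrivial (center S) := hSp.center_nontrivial
  have hcp : p ∣ Nat.card (center S) := by
    obtain ⟨n, hn, h⟩ := (hSp.to_subgroup (center S)).exists_card_eq |>.imp fun n h =>
      (⟨h, h⟩ : Nat.card (center S) = p ^ n ∧ _)
    rw [hn]
    apply dvd_pow_self
    rintro rfl
    rw [pow_zero] at hn
    exact (Finite.one_lt_card (α := center S)).ne' hn
  obtain ⟨⟨⟨z, hzS⟩, hzc⟩, hz⟩ := exists_prime_orderOf_dvd_card' p hcp
  have hz' : orderOf z = p := by
    rw [← hz]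
    rw [← Subgroup.orderOf_coe, ← Subgroup.orderOf_coe]
  obtain ⟨z', hz'S, hz'p, hne⟩ := C.exists_other F hS hz'
  refine ⟨z, hzS, z', hz'S, hz', hz'p, ?_, hne⟩
  have h1 := mem_center_iff.mp hzc ⟨z', hz'S⟩
  exact (congrArg Subtype.val h1).symm

/-- `exists_other` for an element commuting with the Sylow subgroup -/
theorem Cfg.exists_indep_of (C : Cfg G σ) (F : Four σ p q r s) {S : Subgroup G}
    (hS : IsPiHallOf {p} S ⊤) {z : G} (hzp : orderOf z = p) (hz : ∀ y ∈ S, Commute z y) :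
    ∃ z' ∈ S, orderOf z' = p ∧ Commute z z' ∧ z' ∉ zpowers z := by
  obtain ⟨z', hz'S, hz'p, hne⟩ := C.exists_other F hS hzp
  exact ⟨z', hz'S, hz'p, hz z' hz'S, hne⟩

end Basic

end Cfsg.Agent.H381.Criterion
end

-- part: H381/CritB
section
/-!
# The criterion: the Fitting subgroup involves two primes
-/

set_option autoImplicit false
set_option linter.unusedSectionVars false

namespace Cfsg.Agent.H381.Criterion

open Subgroup
open scoped commutatorElement
open Cfsg (piCoreOf fittingOf IsPiHallOf)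
open Cfsg.Agent.H381.Tools
open Cfsg.Agent.H381.Lucido
open Cfsg.Agent.OddOrderLocal.PiCoreOf (piCoreOf_le le_normalizer_piCoreOf)
open Cfsg.Agent.OddOrderLocal.FitCores (isPGroup_piCoreOf core_le_centralizer_core)
open Cfsg.Agent.SignalizersComponents.LocalGlobal (NoFixed)

universe u

variable {G : Type u} [Group G] [Finite G] {σ : Set ℕ} {p q r s : ℕ}

theorem commutator_zpowers_le {X : Subgroup G} {h : G} (hX : h ∈ normalizer (X : Set G)) :
    ⁅X, zpowers h⁆ ≤ X := by
  rw [commutator_comm]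
  apply (Subgroup.commutator_le).mpr
  intro a ha b hb
  have h3 := (mem_normalizer_iff.mp ((zpowers_le.mpr hX : zpowers h ≤ _) ha) b).mp hb
  rw [commutatorElement_def]
  exact mul_mem h3 (inv_mem hb)

theorem normalizer_le_normalizer_centralizer (P : Subgroup G) :
    normalizer (P : Set G) ≤ normalizer ((centralizer (P : Set G) : Subgroup G) : Set G) := by
  have key : ∀ x ∈ normalizer (P : Set G), ∀ c ∈ centralizer (P : Set G),
      x * c * x⁻¹ ∈ centralizer (P : Set G) := by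
    intro x hx c hc
    rw [mem_centralizer_iff] at hc ⊢
    intro y hy
    have h1 : x⁻¹ * y * x ∈ P := by
      have := (mem_normalizer_iff.mp (inv_mem hx) y).mp hy
      rwa [inv_inv] at this
    have h2 := hc _ h1
    calc y * (x * c * x⁻¹) = x * ((x⁻¹ * y * x) * c) * x⁻¹ := by group
      _ = x * (c * (x⁻¹ * y * x)) * x⁻¹ := by rw [h2]
      _ = x * c * x⁻¹ * y := by group
  intro x hx
  rw [mem_normalizer_iff]
  intro c
  refine ⟨key x hx c, fun h => ?_⟩
  have := key x⁻¹ (inv_mem hx) _ h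
  have h3 : x⁻¹ * (x * c * x⁻¹) * x⁻¹⁻¹ = c := by group
  rwa [h3] at this

theorem le_normalizer_inf {A X Y : Subgroup G} (hX : A ≤ normalizer (X : Set G))
    (hY : A ≤ normalizer (Y : Set G)) : A ≤ normalizer ((X ⊓ Y : Subgroup G) : Set G) := by
  intro a ha
  rw [mem_normalizer_iff]
  intro z
  rw [mem_inf, mem_inf, mem_normalizer_iff.mp (hX ha) z, mem_normalizer_iff.mp (hY ha) z]

/-- Context of case B. -/
structure BCtx (σ : Set ℕ) (p q r s : ℕ) (P Q K : Subgroup G) : Prop where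
  C : Cfg G σ
  F : Four σ p q r s
  hP : IsPGroup p P
  hQ : IsPGroup q Q
  PQ : P ≤ centralizer (Q : Set G)
  nP : K ≤ normalizer (P : Set G)
  nQ : K ≤ normalizer (Q : Set G)
  P1 : P ≠ ⊥
  Q1 : Q ≠ ⊥
  hall : IsPiHallOf {r, s} K ⊤
  faith : ∀ t : ℕ, t = r ∨ t = s → ∀ X : Subgroup G, IsPGroup t X → X ≤ centralizer (P : Set G) →
    X ≤ centralizer (Q : Set G) → X = ⊥

namespace BCtx

variable {P Q K : Subgroup G}

theorem swapRS (B : BCtx σ p q r s P Q K) : BCtx σ p q s r P Q K where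
  C := B.C
  F := B.F.swap34
  hP := B.hP
  hQ := B.hQ
  PQ := B.PQ
  nP := B.nP
  nQ := B.nQ
  P1 := B.P1
  Q1 := B.Q1
  hall := by rw [Set.pair_comm]; exact B.hall
  faith := fun t ht X h1 h2 h3 => B.faith t ht.symm X h1 h2 h3

variable (B : BCtx σ p q r s P Q K)
include B

theorem pp : p.Prime := B.C.prime p B.F.mp
theorem qp : q.Prime := B.C.prime q B.F.mq
theorem rp : r.Prime := B.C.prime r B.F.mr
theorem sp : s.Prime := B.C.prime s B.F.ms

theorem solvK : Group.IsSolvable K := by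
  have := B.C.solv
  infer_instance

theorem primes_K {t : ℕ} (ht : t.Prime) (htd : t ∣ Nat.card K) : t = r ∨ t = s := by
  have := B.hall.2.1 t ht htd
  simpa using this

/-- an element of prime order cannot have fixed points on both `P` and `Q` -/
theorem not_both {t : ℕ} (ht : t = r ∨ t = s) {h : G} (hh : orderOf h = t)
    (hP : P ⊓ centralizer {h} ≠ ⊥) (hQ : Q ⊓ centralizer {h} ≠ ⊥) : False := by
  obtain ⟨x, hx, hxp⟩ := exists_mem_of_ne_bot B.pp (B.hP.to_le inf_le_left) hP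
  obtain ⟨y, hy, hyq⟩ := exists_mem_of_ne_bot B.qp (B.hQ.to_le inf_le_left) hQ
  rw [mem_fix] at hx hy
  have hxy : Commute x y := by
    have := mem_centralizer_iff.mp (B.PQ hx.1) y hy.1
    exact this.symm
  rcases ht with rfl | rfl
  · exact B.C.no3 B.F.mp B.F.mq B.F.mr B.F.pq B.F.qr B.F.pr hxp hyq hh hxy hx.2.symm hy.2.symm
  · exact B.C.no3 B.F.mp B.F.mq B.F.ms B.F.pq B.F.qs B.F.ps hxp hyq hh hxy hx.2.symm hy.2.symm

/-- The tool on `P`: `h` of order `s` normalising the `r`-group `X`. -/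
theorem toolP {X : Subgroup G} (hX : IsPGroup r X) (hXK : X ≤ K) {h : G} (hh : orderOf h = s)
    (hK : h ∈ K) (hX' : h ∈ normalizer (X : Set G)) (hfix : P ⊓ centralizer {h} = ⊥) :
    ⁅X, zpowers h⁆ ≤ centralizer (P : Set G) :=
  tool B.sp B.rp B.pp B.F.rs.symm B.F.pr B.F.ps (B.C.nf r B.F.mr s B.F.ms B.F.rs) B.hP hX hh
    (B.nP hK) hX' (hXK.trans B.nP) hfix

theorem toolQ {X : Subgroup G} (hX : IsPGroup r X) (hXK : X ≤ K) {h : G} (hh : orderOf h = s)
    (hK : h ∈ K) (hX' : h ∈ normalizer (X : Set G)) (hfix : Q ⊓ centralizer {h} = ⊥) :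
    ⁅X, zpowers h⁆ ≤ centralizer (Q : Set G) :=
  tool B.sp B.rp B.qp B.F.rs.symm B.F.qr B.F.qs (B.C.nf r B.F.mr s B.F.ms B.F.rs) B.hQ hX hh
    (B.nQ hK) hX' (hXK.trans B.nQ) hfix

/-- `F(K) = O_r(K) O_s(K)` contains its centraliser -/
theorem mem_fit {g : G} (hg : g ∈ K) (h1 : g ∈ centralizer (piCoreOf {r} K : Set G))
    (h2 : g ∈ centralizer (piCoreOf {s} K : Set G)) : g ∈ piCoreOf {r} K ⊔ piCoreOf {s} K := by
  have h3 : g ∈ fittingOf K := by
    apply mem_fitting' B.solvK hg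
    intro t ht htd
    rcases B.primes_K ht htd with rfl | rfl
    · exact h1
    · exact h2
  refine (fitting_le (K := piCoreOf {r} K ⊔ piCoreOf {s} K) ?_) h3
  intro t ht htd
  rcases B.primes_K ht htd with rfl | rfl
  · exact le_sup_left
  · exact le_sup_right

theorem hallS : ∃ S : Subgroup G, S ≤ K ∧ IsPiHallOf {s} S ⊤ ∧ IsPGroup s S := by
  obtain ⟨S, hS⟩ := Cfsg.Agent.OddOrderLocal.HallPi.exists_isPiHallOf B.solvK ({s} : Set ℕ)
  refine ⟨S, hS.1, Cfsg.Agent.OddOrderLocal.HallPi.isPiHallOf_trans hS B.hall ?_, ?_⟩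
  · intro t _ ht
    rw [Set.mem_singleton_iff] at ht
    rw [ht]; simp
  · exact (Cfsg.Agent.OddOrderLocal.PiCoreOf.isPi_singleton_iff B.sp S).mp hS.2.1

/-- (B1): `O_s(K) = 1` is impossible. -/
theorem core_s_ne_bot : piCoreOf {s} K ≠ ⊥ := by
  intro hM
  set N := piCoreOf {r} K with hN
  have hNr : IsPGroup r N := isPGroup_piCoreOf B.rp K
  have hNK : N ≤ K := piCoreOf_le _ _
  have hKN : K ≤ normalizer (N : Set G) := le_normalizer_piCoreOf _ _
  -- elements of order `s` act nontrivially on `N`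
  have hact : ∀ h ∈ K, orderOf h = s → h ∉ centralizer (N : Set G) := by
    intro h hh ho hc
    have h1 : h ∈ piCoreOf {r} K ⊔ piCoreOf {s} K := by
      apply B.mem_fit hh hc
      rw [hM, mem_centralizer_iff]
      intro y hy
      rw [SetLike.mem_coe, mem_bot] at hy
      rw [hy, one_mul, mul_one]
    rw [hM, sup_bot_eq] at h1
    exact not_dvd_card B.rp B.sp B.F.rs.symm hNr (dvd_card_of_mem h1 ho)
  obtain ⟨S, hSK, hS, hSs⟩ := B.hallS
  obtain ⟨e, heS, e', heS', he, he', hee', hne⟩ :=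
    B.C.exists_indep (B.F.swap34.swap23.swap12) hS hSs
  have hEK : zpowers e ⊔ zpowers e' ≤ K := by
    rw [sup_le_iff, zpowers_le, zpowers_le]; exact ⟨hSK heS, hSK heS'⟩
  obtain ⟨hp, hpE, hpo, hpP⟩ := exists_fixed B.sp he he' hee' hne P
    (not_dvd_card B.pp B.sp B.F.ps.symm B.hP) B.P1 (B.nP (hSK heS)) (B.nP (hSK heS'))
  obtain ⟨hq, hqE, hqo, hqQ⟩ := exists_fixed B.sp he he' hee' hne Q
    (not_dvd_card B.qp B.sp B.F.qs.symm B.hQ) B.Q1 (B.nQ (hSK heS)) (B.nQ (hSK heS'))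
  have hpK := hEK hpE
  have hqK := hEK hqE
  have hpQ : Q ⊓ centralizer {hp} = ⊥ := by
    by_contra h; exact B.not_both (Or.inr rfl) hpo hpP h
  have hqP : P ⊓ centralizer {hq} = ⊥ := by
    by_contra h; exact B.not_both (Or.inr rfl) hqo h hqQ
  have h1 := B.toolQ hNr hNK hpo hpK (hKN hpK) hpQ
  have h2 := B.toolP hNr hNK hqo hqK (hKN hqK) hqP
  have h3 : ⁅N, zpowers hq⁆ ≠ ⊥ := by
    intro h
    exact hact hq hqK hqo (commutator_zpowers_eq_bot h)
  have h4 : ⁅N, zpowers hq⁆ ≤ N := commutator_zpowers_le (hKN hqK)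
  obtain ⟨g, hg, hgr⟩ := exists_mem_of_ne_bot B.rp (hNr.to_le h4) h3
  -- `g ∈ N_P := N ⊓ C(P)`
  set NP := N ⊓ centralizer (P : Set G) with hNP
  have hgNP : g ∈ NP := mem_inf.mpr ⟨h4 hg, h2 hg⟩
  have hKP : K ≤ normalizer ((centralizer (P : Set G) : Subgroup G) : Set G) :=
    B.nP.trans (normalizer_le_normalizer_centralizer P)
  have hKNP : K ≤ normalizer (NP : Set G) := le_normalizer_inf hKN hKP
  have h5 : ⁅NP, zpowers hp⁆ ≤ NP := commutator_zpowers_le (hKNP hpK)
  have h6 : ⁅NP, zpowers hp⁆ ≤ centralizer (Q : Set G) :=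
    (commutator_mono inf_le_left le_rfl).trans h1
  have h7 : ⁅NP, zpowers hp⁆ = ⊥ := B.faith r (Or.inl rfl) _ (hNr.to_le (h5.trans inf_le_left))
    (h5.trans inf_le_right) h6
  have h8 : Commute g hp := by
    have := mem_centralizer_iff.mp (commutator_zpowers_eq_bot h7) g hgNP
    exact this
  obtain ⟨u, hu, hup⟩ := exists_mem_of_ne_bot B.pp (B.hP.to_le inf_le_left) hpP
  rw [mem_fix] at hu
  have h9 : Commute u g := mem_centralizer_iff.mp (h2 hg) u hu.1
  exact B.C.no3 B.F.mp B.F.mr B.F.ms B.F.pr B.F.rs B.F.ps hup hgr hpo h9 hu.2.symm h8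

theorem core_r_ne_bot : piCoreOf {r} K ≠ ⊥ := B.swapRS.core_s_ne_bot

/-- Two independent commuting elements of order `r` commuting with an element `y` of order `s`. -/
theorem fix_bot {e e' y : G} (heK : e ∈ K) (heK' : e' ∈ K) (he : orderOf e = r)
    (he' : orderOf e' = r) (hee' : Commute e e') (hne : e' ∉ zpowers e) (hy : orderOf y = s)
    (hey : Commute e y) (hey' : Commute e' y) :
    P ⊓ centralizer {y} = ⊥ ∧ Q ⊓ centralizer {y} = ⊥ :=
  ⟨B.C.fix_eq_bot B.F.mr B.F.ms B.F.mp B.F.rs B.F.ps.symm B.F.pr.symm he he' hee' hne hy hey hey' B.hP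
    (B.nP heK) (B.nP heK'),
   B.C.fix_eq_bot B.F.mr B.F.ms B.F.mq B.F.rs B.F.qs.symm B.F.qr.symm he he' hee' hne hy hey hey' B.hQ
    (B.nQ heK) (B.nQ heK')⟩

/-- an element of `O_r(K)` of order `r` commuting with `R` and without fixed points on `P` and `Q`:
it lies in a group `E = ⟨g₀⟩ × ⟨g₁⟩ ≤ R` centralising `O_s(K)`, some element of which has
fixed points on `P`. -/
theorem exists_E {R : Subgroup G} (hRK : R ≤ K) (hR : IsPiHallOf {r} R ⊤) {g₀ : G}
    (hg₀ : g₀ ∈ piCoreOf {r} K) (hg₀r : orderOf g₀ = r) (hg₀R : ∀ y ∈ R, Commute g₀ y)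
    (hg₀S : g₀ ∈ R)
    (hP₀ : P ⊓ centralizer {g₀} = ⊥) (hQ₀ : Q ⊓ centralizer {g₀} = ⊥) :
    ∃ g₁ ∈ R, orderOf g₁ = r ∧ Commute g₀ g₁ ∧ g₁ ∉ zpowers g₀ ∧
      (zpowers g₀ ⊔ zpowers g₁ ≤ centralizer (piCoreOf {s} K : Set G)) ∧
      ∃ g ∈ zpowers g₀ ⊔ zpowers g₁, orderOf g = r ∧ P ⊓ centralizer {g} ≠ ⊥ := by
  obtain ⟨g₁, hg₁R, hg₁r, hcomm, hne⟩ := B.C.exists_indep_of (B.F.swap23.swap12) hR hg₀r hg₀R
  set M := piCoreOf {s} K with hM
  have hMs : IsPGroup s M := isPGroup_piCoreOf B.sp K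
  have hMK : M ≤ K := piCoreOf_le _ _
  have hKM : K ≤ normalizer (M : Set G) := le_normalizer_piCoreOf _ _
  have hEK : zpowers g₀ ⊔ zpowers g₁ ≤ K := by
    rw [sup_le_iff, zpowers_le, zpowers_le]; exact ⟨hRK hg₀S, hRK hg₁R⟩
  obtain ⟨g, hgE, hgr, hgP⟩ := exists_fixed B.rp hg₀r hg₁r hcomm hne P
    (not_dvd_card B.pp B.rp B.F.pr.symm B.hP) B.P1 (B.nP (hRK hg₀S)) (B.nP (hRK hg₁R))
  obtain ⟨g', hgE', hgr', hgQ'⟩ := exists_fixed B.rp hg₀r hg₁r hcomm hne Q
    (not_dvd_card B.qp B.rp B.F.qr.symm B.hQ) B.Q1 (B.nQ (hRK hg₀S)) (B.nQ (hRK hg₁R))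
  have hgQ : Q ⊓ centralizer {g} = ⊥ := by
    by_contra h; exact B.not_both (Or.inl rfl) hgr hgP h
  have hgP' : P ⊓ centralizer {g'} = ⊥ := by
    by_contra h; exact B.not_both (Or.inl rfl) hgr' h hgQ'
  have h1 := B.swapRS.toolQ hMs hMK hgr (hEK hgE) (hKM (hEK hgE)) hgQ
  have h2 := B.swapRS.toolP hMs hMK hgr' (hEK hgE') (hKM (hEK hgE')) hgP'
  -- `g₀` centralises `M`
  have hg₀M : g₀ ∈ centralizer (M : Set G) :=
    core_le_centralizer_core B.rp B.sp B.F.rs K hg₀
  -- `E = ⟨g₀⟩ ⟨g⟩`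
  have hgen : ∀ {w : G} {V : Subgroup G}, w ∈ zpowers g₀ ⊔ zpowers g₁ → orderOf w = r →
      V ⊓ centralizer {g₀} = ⊥ → V ⊓ centralizer {w} ≠ ⊥ → g₁ ∈ zpowers g₀ ⊔ zpowers w := by
    intro w V hw hwr hV₀ hVw
    have hn : zpowers g₁ ≤ normalizer (zpowers g₀ : Set G) := by
      rw [zpowers_le]
      apply centralizer_le_normalizer
      rw [mem_centralizer_iff]
      intro y hy
      obtain ⟨n, rfl⟩ := mem_zpowers_iff.mp hy
      exact (hcomm.zpow_left n).eq
    obtain ⟨a, ha, b, hb, rfl⟩ := (Cfsg.Agent.SignalizersComponents.CoprimeBasic.mem_sup_iff hn w).mp hw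
    have hb1 : b ≠ 1 := by
      rintro rfl
      rw [mul_one] at hwr hVw
      have h3 := zpowers_eq_of_mem hg₀r hwr ha
      apply hVw
      rw [eq_bot_iff, ← hV₀]
      apply inf_le_inf_left
      intro c hc
      rw [mem_cent_iff] at hc ⊢
      obtain ⟨n, hn⟩ := mem_zpowers_iff.mp h3
      rw [← hn]
      exact hc.zpow_left n
    have hbr : orderOf b = r := by
      have : Fact r.Prime := ⟨B.rp⟩
      apply orderOf_eq_prime _ hb1
      obtain ⟨n, rfl⟩ := mem_zpowers_iff.mp hb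
      rw [← zpow_natCast, ← zpow_mul, mul_comm, zpow_mul, zpow_natCast, pow_eq_one hg₁r, one_zpow]
    have h3 := zpowers_eq_of_mem hg₁r hbr hb
    have h4 : b ∈ zpowers g₀ ⊔ zpowers (a * b) := by
      have h5 : a⁻¹ * (a * b) ∈ zpowers g₀ ⊔ zpowers (a * b) :=
        mul_mem (le_sup_left (a := zpowers g₀) (inv_mem ha))
          (le_sup_right (a := zpowers g₀) (mem_zpowers (a * b)))
      have h6 : a⁻¹ * (a * b) = b := by group
      rwa [h6] at h5
    exact (zpowers_le.mpr h4 : zpowers b ≤ _) h3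
  have hle : ⁅M, zpowers g⁆ ≤ centralizer (P : Set G) := by
    refine le_trans ?_ h2
    -- `g ∈ ⟨g₀⟩⟨g'⟩`
    have h3 : g ∈ zpowers g₀ ⊔ zpowers g' := by
      have h4 := hgen hgE' hgr' hQ₀ hgQ'
      have h5 : zpowers g₀ ⊔ zpowers g₁ ≤ zpowers g₀ ⊔ zpowers g' := by
        rw [sup_le_iff]; exact ⟨le_sup_left, zpowers_le.mpr h4⟩
      exact h5 hgE
    have hcg : Commute g₀ g' := by
      have h5 : zpowers g₀ ⊔ zpowers g₁ ≤ centralizer {g₀} := by
        rw [sup_le_iff, zpowers_le, zpowers_le]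
        exact ⟨mem_cent_iff.mpr (Commute.refl _), mem_cent_iff.mpr hcomm⟩
      exact mem_cent_iff.mp (h5 hgE')
    have hn : zpowers g' ≤ normalizer (zpowers g₀ : Set G) := by
      rw [zpowers_le]
      apply centralizer_le_normalizer
      rw [mem_centralizer_iff]
      intro y hy
      obtain ⟨n, rfl⟩ := mem_zpowers_iff.mp hy
      exact (hcg.zpow_left n).eq
    rw [Subgroup.commutator_le]
    intro m hm w hw
    have hw2 : w ∈ zpowers g₀ ⊔ zpowers g' := (zpowers_le.mpr h3 : zpowers g ≤ _) hw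
    obtain ⟨a, ha, b, hb, rfl⟩ :=
      (Cfsg.Agent.SignalizersComponents.CoprimeBasic.mem_sup_iff hn w).mp hw2
    have haM : ∀ x ∈ M, x * a = a * x := by
      intro x hx
      obtain ⟨n, rfl⟩ := mem_zpowers_iff.mp ha
      have h4 : Commute x g₀ := mem_centralizer_iff.mp hg₀M x hx
      exact (h4.zpow_right n).eq
    have hbK : b ∈ normalizer (M : Set G) :=
      (zpowers_le.mpr (hKM (hEK hgE')) : zpowers g' ≤ _) hb
    have h5 : m * b * m⁻¹ * b⁻¹ ∈ M := by
      have := (mem_normalizer_iff.mp hbK m⁻¹).mp (inv_mem hm)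
      have h6 : m * b * m⁻¹ * b⁻¹ = m * (b * m⁻¹ * b⁻¹) := by group
      rw [h6]; exact mul_mem hm this
    have h7 : ⁅m, a * b⁆ = ⁅m, b⁆ := by
      rw [commutatorElement_def, commutatorElement_def]
      calc m * (a * b) * m⁻¹ * (a * b)⁻¹ = (m * a) * b * m⁻¹ * b⁻¹ * a⁻¹ := by group
        _ = (a * m) * b * m⁻¹ * b⁻¹ * a⁻¹ := by rw [haM m hm]
        _ = a * (m * b * m⁻¹ * b⁻¹) * a⁻¹ := by group
        _ = (m * b * m⁻¹ * b⁻¹) * a * a⁻¹ := by rw [haM _ h5]
        _ = m * b * m⁻¹ * b⁻¹ := by group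
    rw [h7]
    exact commutator_mem_commutator hm hb
  have h3 : ⁅M, zpowers g⁆ = ⊥ :=
    B.faith s (Or.inr rfl) _ (hMs.to_le (commutator_zpowers_le (hKM (hEK hgE)))) hle h1
  have hgM : g ∈ centralizer (M : Set G) := commutator_zpowers_eq_bot h3
  refine ⟨g₁, hg₁R, hg₁r, hcomm, hne, ?_, g, hgE, hgr, hgP⟩
  rw [sup_le_iff, zpowers_le, zpowers_le]
  refine ⟨hg₀M, ?_⟩
  have h4 : zpowers g₀ ⊔ zpowers g ≤ centralizer (M : Set G) := by
    rw [sup_le_iff, zpowers_le, zpowers_le]; exact ⟨hg₀M, hgM⟩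
  exact h4 (hgen hgE hgr hP₀ hgP)

theorem core_le_hall {t : ℕ} {R : Subgroup G} (hR : IsPiHallOf {t} R K) (ht : t.Prime) :
    piCoreOf {t} K ≤ R := by
  obtain ⟨m, hm, h⟩ := Cfsg.Agent.OddOrderLocal.HallPi.exists_conj_le_of_isPiHallOf B.solvK hR
    (X := piCoreOf {t} K) (piCoreOf_le _ _)
    ((Cfsg.Agent.OddOrderLocal.PiCoreOf.isPi_singleton_iff ht _).mpr (isPGroup_piCoreOf ht K))
  intro x hx
  have h1 : m⁻¹ * x * m ∈ piCoreOf {t} K := by
    have := (mem_normalizer_iff.mp (inv_mem (le_normalizer_piCoreOf {t} K hm)) x).mp hx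
    rwa [inv_inv] at this
  have h2 := h ⟨_, h1, rfl⟩
  have h3 : (MulAut.conj m).toMonoidHom (m⁻¹ * x * m) = x := by
    simp only [MulEquiv.toMonoidHom_eq_coe, MonoidHom.coe_coe, MulAut.conj_apply]
    group
  rwa [h3] at h2

theorem hallS' : ∃ S : Subgroup G, S ≤ K ∧ IsPiHallOf {s} S ⊤ ∧ IsPGroup s S ∧
    piCoreOf {s} K ≤ S := by
  obtain ⟨S, hS⟩ := Cfsg.Agent.OddOrderLocal.HallPi.exists_isPiHallOf B.solvK ({s} : Set ℕ)
  refine ⟨S, hS.1, Cfsg.Agent.OddOrderLocal.HallPi.isPiHallOf_trans hS B.hall ?_, ?_,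
    B.core_le_hall hS B.sp⟩
  · intro t _ ht
    rw [Set.mem_singleton_iff] at ht
    rw [ht]; simp
  · exact (Cfsg.Agent.OddOrderLocal.PiCoreOf.isPi_singleton_iff B.sp S).mp hS.2.1

/-- an `r`-element centralising `O_s(K)` commutes with an `s`-element centralising `O_r(K)` -/
theorem commute_of_cent {R S : Subgroup G} (hRK : R ≤ K) (hSK : S ≤ K) (hR : IsPGroup r R)
    (hS : IsPGroup s S) (hNR : piCoreOf {r} K ≤ R) (hMS : piCoreOf {s} K ≤ S) {e f : G}
    (he : e ∈ R) (hf : f ∈ S) (heM : e ∈ centralizer (piCoreOf {s} K : Set G))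
    (hfN : f ∈ centralizer (piCoreOf {r} K : Set G)) : Commute e f := by
  set N := piCoreOf {r} K with hN
  set M := piCoreOf {s} K with hM
  have hKN : K ≤ normalizer (N : Set G) := le_normalizer_piCoreOf _ _
  have hKM : K ≤ normalizer (M : Set G) := le_normalizer_piCoreOf _ _
  have hNK : N ≤ K := piCoreOf_le _ _
  have hMK : M ≤ K := piCoreOf_le _ _
  have hnorm : ∀ {X : Subgroup G}, K ≤ normalizer (X : Set G) → ∀ k ∈ K, ∀ c ∈ centralizer (X : Set G),
      k * c * k⁻¹ ∈ centralizer (X : Set G) := by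
    intro X hX k hk c hc
    exact (mem_normalizer_iff.mp (normalizer_le_normalizer_centralizer X (hX hk)) c).mp hc
  have hcM : e * f * e⁻¹ * f⁻¹ ∈ centralizer (M : Set G) := by
    have h1 := hnorm hKM f (hSK hf) e⁻¹ (inv_mem heM)
    have h2 : e * f * e⁻¹ * f⁻¹ = e * (f * e⁻¹ * f⁻¹) := by group
    rw [h2]; exact mul_mem heM h1
  have hcN : e * f * e⁻¹ * f⁻¹ ∈ centralizer (N : Set G) := by
    have h1 := hnorm hKN e (hRK he) f hfN
    exact mul_mem h1 (inv_mem hfN)
  have hcK : e * f * e⁻¹ * f⁻¹ ∈ K :=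
    mul_mem (mul_mem (mul_mem (hRK he) (hSK hf)) (inv_mem (hRK he))) (inv_mem (hSK hf))
  have hc := B.mem_fit hcK hcN hcM
  obtain ⟨n, hn, m, hm, hnm⟩ :=
    (Cfsg.Agent.SignalizersComponents.CoprimeBasic.mem_sup_iff (hMK.trans hKN) _).mp hc
  -- orders
  have hrf : Fact r.Prime := ⟨B.rp⟩
  have hsf : Fact s.Prime := ⟨B.sp⟩
  have ord : ∀ {t : ℕ} [Fact t.Prime] {X : Subgroup G}, IsPGroup t X → ∀ x ∈ X, ∃ k, orderOf x = t ^ k := by
    intro t ht X hX x hx
    obtain ⟨k, hk⟩ := IsPGroup.iff_orderOf.mp hX ⟨x, hx⟩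
    exact ⟨k, by rw [← hk, Subgroup.orderOf_mk]⟩
  have hone : ∀ {x : G} {a b : ℕ}, orderOf x = r ^ a → orderOf x ∣ s ^ b → x = 1 := by
    intro x a b h1 h2
    rw [← orderOf_eq_one_iff]
    have h3 : (r ^ a).Coprime (s ^ b) := Nat.Coprime.pow _ _ ((Nat.coprime_primes B.rp B.sp).mpr B.F.rs)
    rw [h1] at h2 ⊢
    exact Nat.eq_one_of_dvd_coprimes h3 dvd_rfl h2
  have hone' : ∀ {x : G} {a b : ℕ}, orderOf x = s ^ a → orderOf x ∣ r ^ b → x = 1 := by
    intro x a b h1 h2
    rw [← orderOf_eq_one_iff]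
    have h3 : (s ^ a).Coprime (r ^ b) := Nat.Coprime.pow _ _ ((Nat.coprime_primes B.sp B.rp).mpr B.F.rs.symm)
    rw [h1] at h2 ⊢
    exact Nat.eq_one_of_dvd_coprimes h3 dvd_rfl h2
  have hmn : Commute m n := by
    have := mem_centralizer_iff.mp (core_le_centralizer_core B.rp B.sp B.F.rs K hn) m hm
    exact this
  have hem : Commute e m := (mem_centralizer_iff.mp heM m hm).symm
  have hfn : Commute f n := (mem_centralizer_iff.mp hfN n hn).symm
  -- `f e f⁻¹ = m⁻¹ (n⁻¹ e)`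
  have e1 : f * e * f⁻¹ = m⁻¹ * (n⁻¹ * e) := by
    have h1 : e * f * e⁻¹ * f⁻¹ = n * m := hnm.symm
    have h2 : f * e * f⁻¹ = (e * f * e⁻¹ * f⁻¹)⁻¹ * e := by group
    rw [h2, h1]; group
  have hm1 : m = 1 := by
    obtain ⟨k, hk⟩ := ord hS m (hMS hm)
    obtain ⟨l, hl⟩ := ord hR (n⁻¹ * e) (mul_mem (inv_mem (hNR hn)) he)
    obtain ⟨j, hj⟩ := ord hR e he
    have h1 : Commute m⁻¹ (n⁻¹ * e) := (hmn.inv_right.mul_right hem.symm).inv_left
    have h2 : orderOf (f * e * f⁻¹) = r ^ j := by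
      rw [← hj]; exact (MulAut.conj f).orderOf_eq e
    have h3 : orderOf (m⁻¹ * (n⁻¹ * e)) = orderOf m⁻¹ * orderOf (n⁻¹ * e) := by
      apply h1.orderOf_mul_eq_mul_orderOf_of_coprime
      rw [orderOf_inv, hk, hl]
      exact Nat.Coprime.pow _ _ ((Nat.coprime_primes B.sp B.rp).mpr B.F.rs.symm)
    rw [e1, h3, orderOf_inv] at h2
    exact hone' (b := j) hk (Dvd.intro _ h2)
  have e2 : e * f * e⁻¹ = n * f := by
    rw [hm1, mul_one] at hnm
    rw [hnm]; group
  have hn1 : n = 1 := by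
    obtain ⟨k, hk⟩ := ord hR n (hNR hn)
    obtain ⟨l, hl⟩ := ord hS f hf
    have h2 : orderOf (e * f * e⁻¹) = s ^ l := by
      rw [← hl]; exact (MulAut.conj e).orderOf_eq f
    have h3 : orderOf (n * f) = orderOf n * orderOf f := by
      apply hfn.symm.orderOf_mul_eq_mul_orderOf_of_coprime
      rw [hk, hl]
      exact Nat.Coprime.pow _ _ ((Nat.coprime_primes B.rp B.sp).mpr B.F.rs)
    rw [e2, h3] at h2
    exact hone (b := l) hk (Dvd.intro _ h2)
  rw [hn1, one_mul] at e2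
  have : e * f = f * e := by
    calc e * f = (e * f * e⁻¹) * e := by group
      _ = f * e := by rw [e2]
  exact this

/-- The end of case B if an element `g₀ ∈ O_r(K)` of order `r` commutes with `R` and `S`. -/
theorem false_of_central {R S : Subgroup G} (hRK : R ≤ K) (hSK : S ≤ K) (hR : IsPiHallOf {r} R ⊤)
    (hS : IsPiHallOf {s} S ⊤) (hRr : IsPGroup r R) (hSs : IsPGroup s S)
    (hNR : piCoreOf {r} K ≤ R) (hMS : piCoreOf {s} K ≤ S) {g₀ h₀ : G}
    (hg₀ : g₀ ∈ piCoreOf {r} K) (hg₀r : orderOf g₀ = r) (hg₀R : ∀ y ∈ R, Commute g₀ y)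
    (hg₀S : ∀ y ∈ S, Commute g₀ y)
    (hh₀ : h₀ ∈ piCoreOf {s} K) (hh₀s : orderOf h₀ = s) (hh₀S : ∀ y ∈ S, Commute h₀ y) : False := by
  -- `g₀` has no fixed points on `P`, `Q`
  obtain ⟨h₁, hh₁S, hh₁s, hcomm, hne⟩ :=
    B.C.exists_indep_of (B.F.swap34.swap23.swap12) hS hh₀s hh₀S
  have hh₀S' : h₀ ∈ S := hMS hh₀
  have h1 := B.swapRS.fix_bot (hSK hh₀S') (hSK hh₁S) hh₀s hh₁s hcomm hne hg₀r
    (hg₀S h₀ hh₀S').symm (hg₀S h₁ hh₁S).symm
  obtain ⟨g₁, hg₁R, hg₁r, hgc, hgne, hEM, g, hgE, hgr, hgP⟩ :=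
    B.exists_E hRK hR hg₀ hg₀r hg₀R (hNR hg₀) h1.1 h1.2
  have hEM₀ : ∀ e ∈ zpowers g₀ ⊔ zpowers g₁, Commute e h₀ := by
    intro e he
    exact (mem_centralizer_iff.mp (hEM he) h₀ hh₀).symm
  have h2 := B.fix_bot (hRK (hNR hg₀)) (hRK hg₁R) hg₀r hg₁r hgc hgne hh₀s
    (hEM₀ g₀ (le_sup_left (a := zpowers g₀) (mem_zpowers g₀)))
    (hEM₀ g₁ (le_sup_right (a := zpowers g₀) (mem_zpowers g₁)))
  obtain ⟨h₁', hh₁'S, hh₁'s, hc', hne', hFN, -⟩ :=
    B.swapRS.exists_E hSK hS hh₀ hh₀s hh₀S hh₀S' h2.1 h2.2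
  have hER : zpowers g₀ ⊔ zpowers g₁ ≤ R := by
    rw [sup_le_iff, zpowers_le, zpowers_le]; exact ⟨hNR hg₀, hg₁R⟩
  have hcom : ∀ f ∈ zpowers h₀ ⊔ zpowers h₁', f ∈ S → Commute g f := fun f hf hfS =>
    B.commute_of_cent hRK hSK hRr hSs hNR hMS (hER hgE) hfS (hEM hgE) (hFN hf)
  have h3 := B.swapRS.fix_bot (hSK hh₀S') (hSK hh₁'S) hh₀s hh₁'s hc' hne' hgr
    (hcom h₀ (le_sup_left (a := zpowers h₀) (mem_zpowers h₀)) hh₀S').symm
    (hcom h₁' (le_sup_right (a := zpowers h₀) (mem_zpowers h₁')) hh₁'S).symm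
  exact hgP h3.1

/-- Case B with two independent commuting elements of order `s` in `O_s(K)`. -/
theorem false_of_indep {e e' : G} (he : e ∈ piCoreOf {s} K) (he' : e' ∈ piCoreOf {s} K)
    (hes : orderOf e = s) (hes' : orderOf e' = s) (hee' : Commute e e') (hne : e' ∉ zpowers e) :
    False := by
  obtain ⟨R, hRK, hR, hRr, hNR⟩ := B.swapRS.hallS'
  have hrf : Fact r.Prime := ⟨B.rp⟩
  have hNr : IsPGroup r (piCoreOf {r} K) := isPGroup_piCoreOf B.rp K
  have h0 := Cfsg.Agent.PLocal.OffenderStep.inf_centralizer_ne_bot (piCoreOf {r} K) R hNr hRr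
    (hRK.trans (le_normalizer_piCoreOf _ _)) B.core_r_ne_bot
  obtain ⟨g₀, hg₀, hg₀r⟩ := exists_mem_of_ne_bot B.rp (hNr.to_le inf_le_left) h0
  have hg₀R : ∀ y ∈ R, Commute g₀ y := fun y hy =>
    ((mem_centralizer_iff.mp (mem_inf.mp hg₀).2 y hy).symm : g₀ * y = y * g₀)
  have hg₀N := (mem_inf.mp hg₀).1
  have hMK : piCoreOf {s} K ≤ K := piCoreOf_le _ _
  have hcom : ∀ {x y : G}, x ∈ piCoreOf {s} K → y ∈ piCoreOf {r} K → Commute x y := by
    intro x y hx hy
    exact mem_centralizer_iff.mp (core_le_centralizer_core B.rp B.sp B.F.rs K hy) x hx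
  have h1 := B.swapRS.fix_bot (hMK he) (hMK he') hes hes' hee' hne hg₀r (hcom he hg₀N)
    (hcom he' hg₀N)
  obtain ⟨g₁, hg₁R, hg₁r, hgc, hgne, hEM, g, hgE, hgr, hgP⟩ :=
    B.exists_E hRK hR hg₀N hg₀r hg₀R (hNR hg₀N) h1.1 h1.2
  have h2 := B.swapRS.fix_bot (hMK he) (hMK he') hes hes' hee' hne hgr
    (mem_centralizer_iff.mp (hEM hgE) e he) (mem_centralizer_iff.mp (hEM hgE) e' he')
  exact hgP h2.1

/-- the subgroup generated by `g₀` is normal in `K` when all elements of order `r` of `O_r(K)` lie in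
it; if `s ∤ r - 1` then `S` centralises `g₀`. -/
theorem comm_of_not_dvd {S : Subgroup G} (hSK : S ≤ K) (hSs : IsPGroup s S) {g₀ : G}
    (hg₀ : g₀ ∈ piCoreOf {r} K) (hg₀r : orderOf g₀ = r)
    (huniq : ∀ x ∈ piCoreOf {r} K, orderOf x = r → x ∈ zpowers g₀) (hd : ¬ s ∣ r - 1) :
    ∀ y ∈ S, Commute g₀ y := by
  intro y hy
  have hn : y ∈ normalizer (zpowers g₀ : Set G) := by
    apply Cfsg.Agent.OddOrderLocal.Thm34.mem_normalizer_of_conj (orderOf_pos y) (pow_orderOf_eq_one y)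
    intro k hk
    obtain ⟨n, rfl⟩ := mem_zpowers_iff.mp hk
    have h1 : y * g₀ * y⁻¹ ∈ piCoreOf {r} K :=
      (mem_normalizer_iff.mp (le_normalizer_piCoreOf {r} K (hSK hy)) g₀).mp hg₀
    have h2 : orderOf (y * g₀ * y⁻¹) = r := by
      rw [← hg₀r]; exact (MulAut.conj y).orderOf_eq g₀
    have h3 := huniq _ h1 h2
    have h4 : y * g₀ ^ n * y⁻¹ = (y * g₀ * y⁻¹) ^ n := by rw [conj_zpow]
    rw [h4]
    exact zpow_mem h3 n
  have hc := Cfsg.Agent.J3Type.Closing.comm_of_coprime B.rp (zpowers g₀)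
    (by rw [Nat.card_zpowers, hg₀r]) y hn (by
      have hsf : Fact s.Prime := ⟨B.sp⟩
      obtain ⟨k, hk⟩ := IsPGroup.iff_orderOf.mp hSs ⟨y, hy⟩
      rw [Subgroup.orderOf_mk] at hk
      rw [hk]
      exact Nat.Coprime.pow_left _ ((B.sp.coprime_iff_not_dvd).mpr hd)) g₀ (mem_zpowers g₀)
  exact (hc.symm : g₀ * y = y * g₀)

/-- **Case B is impossible.** -/
theorem false : False := by
  obtain ⟨R, hRK, hR, hRr, hNR⟩ := B.swapRS.hallS'
  obtain ⟨S, hSK, hS, hSs, hMS⟩ := B.hallS'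
  have hrf : Fact r.Prime := ⟨B.rp⟩
  have hsf : Fact s.Prime := ⟨B.sp⟩
  have hNr : IsPGroup r (piCoreOf {r} K) := isPGroup_piCoreOf B.rp K
  have hMs : IsPGroup s (piCoreOf {s} K) := isPGroup_piCoreOf B.sp K
  have h0 := Cfsg.Agent.PLocal.OffenderStep.inf_centralizer_ne_bot (piCoreOf {r} K) R hNr hRr
    (hRK.trans (le_normalizer_piCoreOf _ _)) B.core_r_ne_bot
  obtain ⟨g₀, hg₀, hg₀r⟩ := exists_mem_of_ne_bot B.rp (hNr.to_le inf_le_left) h0
  have hg₀R : ∀ y ∈ R, Commute g₀ y := fun y hy =>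
    ((mem_centralizer_iff.mp (mem_inf.mp hg₀).2 y hy).symm : g₀ * y = y * g₀)
  have hg₀N := (mem_inf.mp hg₀).1
  have h0' := Cfsg.Agent.PLocal.OffenderStep.inf_centralizer_ne_bot (piCoreOf {s} K) S hMs hSs
    (hSK.trans (le_normalizer_piCoreOf _ _)) B.core_s_ne_bot
  obtain ⟨h₀, hh₀, hh₀s⟩ := exists_mem_of_ne_bot B.sp (hMs.to_le inf_le_left) h0'
  have hh₀S : ∀ y ∈ S, Commute h₀ y := fun y hy =>
    ((mem_centralizer_iff.mp (mem_inf.mp hh₀).2 y hy).symm : h₀ * y = y * h₀)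
  have hh₀M := (mem_inf.mp hh₀).1
  -- uniqueness of the subgroups of prime order of `O_r(K)`, `O_s(K)`
  have huM : ∀ x ∈ piCoreOf {s} K, orderOf x = s → x ∈ zpowers h₀ := by
    intro x hx hxs
    by_contra hne
    exact B.false_of_indep hh₀M hx hh₀s hxs (hh₀S x (hMS hx)) hne
  have huN : ∀ x ∈ piCoreOf {r} K, orderOf x = r → x ∈ zpowers g₀ := by
    intro x hx hxr
    by_contra hne
    exact B.swapRS.false_of_indep hg₀N hx hg₀r hxr (hg₀R x (hNR hx)) hne
  by_cases hd : s ∣ r - 1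
  · have hd' : ¬ r ∣ s - 1 := by
      intro h
      have h1 := Nat.le_of_dvd (by have := B.rp.two_le; omega) hd
      have h2 := Nat.le_of_dvd (by have := B.sp.two_le; omega) h
      have := B.rp.two_le
      omega
    exact B.swapRS.false_of_central hSK hRK hS hR hSs hRr hMS hNR hh₀M hh₀s hh₀S
      (B.swapRS.comm_of_not_dvd hRK hRr hh₀M hh₀s huM hd') hg₀N hg₀r hg₀R
  · exact B.false_of_central hRK hSK hR hS hRr hSs hNR hMS hg₀N hg₀r hg₀R
      (B.comm_of_not_dvd hSK hSs hg₀N hg₀r huN hd) hh₀M hh₀s hh₀S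

end BCtx

end Cfsg.Agent.H381.Criterion
end

-- part: H381/CritA
section
/-!
# The criterion: the Fitting subgroup is a `p`-group
-/

set_option autoImplicit false
set_option linter.unusedSectionVars false

namespace Cfsg.Agent.H381.Criterion

open Subgroup
open scoped commutatorElement
open Cfsg (piCoreOf fittingOf IsPiHallOf)
open Cfsg.Agent.H381.Tools
open Cfsg.Agent.H381.Lucido
open Cfsg.Agent.OddOrderLocal.PiCoreOf (piCoreOf_le le_normalizer_piCoreOf)
open Cfsg.Agent.OddOrderLocal.FitCores (isPGroup_piCoreOf core_le_centralizer_core)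
open Cfsg.Agent.SignalizersComponents.LocalGlobal (NoFixed)

universe u

variable {G : Type u} [Group G] [Finite G] {σ : Set ℕ} {p q r s : ℕ}

theorem mem_centralizer_bot (g : G) : g ∈ centralizer ((⊥ : Subgroup G) : Set G) := by
  rw [mem_centralizer_iff]
  intro y hy
  rw [SetLike.mem_coe, mem_bot] at hy
  rw [hy, one_mul, mul_one]

/-- commuting elements of orders `r`, `s` in a Hall `{r, s}`-subgroup -/
theorem Cfg.pair_in_hall (C : Cfg G σ) (hr : r ∈ σ) (hs : s ∈ σ) (hrs : r ≠ s) {K : Subgroup G}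
    (hK : IsPiHallOf {r, s} K ⊤) : ∃ a ∈ K, ∃ b ∈ K, Commute a b ∧ orderOf a = r ∧ orderOf b = s := by
  have hsol : Group.IsSolvable G := C.solv
  obtain ⟨g, hg⟩ := C.pair r hr s hs hrs
  obtain ⟨m, -, hm⟩ := Cfsg.Agent.OddOrderLocal.HallPi.exists_conj_le_of_isPiHallOf
    (M := ⊤) inferInstance hK (X := zpowers g) le_top (by
      intro t ht htd
      rw [Nat.card_zpowers, hg] at htd
      rcases (Nat.Prime.dvd_mul ht).mp htd with h | h
      · left; exact (Nat.prime_dvd_prime_iff_eq ht (C.prime r hr)).mp h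
      · right; exact (Nat.prime_dvd_prime_iff_eq ht (C.prime s hs)).mp h)
  have h1 : m * g * m⁻¹ ∈ K := hm ⟨g, mem_zpowers g, rfl⟩
  have h2 : orderOf (m * g * m⁻¹) = r * s := by
    rw [← hg]; exact (MulAut.conj m).orderOf_eq g
  set x := m * g * m⁻¹ with hx
  have hr0 := (C.prime r hr).ne_zero
  have hs0 := (C.prime s hs).ne_zero
  refine ⟨x ^ s, pow_mem h1 _, x ^ r, pow_mem h1 _, (Commute.refl x).pow_pow s r, ?_, ?_⟩
  · rw [orderOf_pow_of_dvd hs0 (by rw [h2]; exact dvd_mul_left _ _), h2,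
      Nat.mul_div_cancel _ (Nat.pos_of_ne_zero hs0)]
  · rw [orderOf_pow_of_dvd hr0 (by rw [h2]; exact dvd_mul_right _ _), h2,
      Nat.mul_div_cancel_left _ (Nat.pos_of_ne_zero hr0)]

/-- Context of case A. -/
structure ACtx (σ : Set ℕ) (p q r s : ℕ) (P H : Subgroup G) : Prop where
  C : Cfg G σ
  F : Four σ p q r s
  hP : IsPGroup p P
  P1 : P ≠ ⊥
  nP : H ≤ normalizer (P : Set G)
  faith : H ⊓ centralizer (P : Set G) = ⊥
  hall : IsPiHallOf {q, r, s} H ⊤

namespace ACtx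

variable {P H : Subgroup G}

theorem swap34 (A : ACtx σ p q r s P H) : ACtx σ p q s r P H where
  C := A.C
  F := A.F.swap34
  hP := A.hP
  P1 := A.P1
  nP := A.nP
  faith := A.faith
  hall := by
    rw [show ({q, s, r} : Set ℕ) = {q, r, s} by ext x; simp only [Set.mem_insert_iff, Set.mem_singleton_iff]; tauto]
    exact A.hall

theorem swap23 (A : ACtx σ p q r s P H) : ACtx σ p r q s P H where
  C := A.C
  F := A.F.swap23
  hP := A.hP
  P1 := A.P1
  nP := A.nP
  faith := A.faith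
  hall := by
    rw [show ({r, q, s} : Set ℕ) = {q, r, s} by ext x; simp only [Set.mem_insert_iff, Set.mem_singleton_iff]; tauto]
    exact A.hall

variable (A : ACtx σ p q r s P H)
include A

theorem pp : p.Prime := A.C.prime p A.F.mp
theorem qp : q.Prime := A.C.prime q A.F.mq
theorem rp : r.Prime := A.C.prime r A.F.mr
theorem sp : s.Prime := A.C.prime s A.F.ms

theorem solvH : Group.IsSolvable H := by
  have := A.C.solv
  infer_instance

theorem primes_H {t : ℕ} (ht : t.Prime) (htd : t ∣ Nat.card H) : t = q ∨ t = r ∨ t = s := by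
  have := A.hall.2.1 t ht htd
  simpa using this

theorem dvd_card {t : ℕ} (ht : t = q ∨ t = r ∨ t = s) : t ∣ Nat.card H := by
  have key : ∀ {a b : ℕ}, a ∈ σ → b ∈ σ → a ≠ b → (a = q ∨ a = r ∨ a = s) → a ∣ Nat.card H := by
    intro a b ha hb hab h
    apply Cfsg.Agent.OddOrderLocal.HallPi.prime_dvd_card A.hall (A.C.prime a ha)
      (by simpa using h)
    obtain ⟨g, hg⟩ := A.C.pair a ha b hb hab
    rw [card_top]
    exact (dvd_mul_right a b).trans (hg ▸ orderOf_dvd_natCard g)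
  rcases ht with rfl | rfl | rfl
  · exact key A.F.mq A.F.mr A.F.qr (Or.inl rfl)
  · exact key A.F.mr A.F.mq A.F.qr.symm (Or.inr (Or.inl rfl))
  · exact key A.F.ms A.F.mq A.F.qs.symm (Or.inr (Or.inr rfl))

theorem mem_fit {g : G} (hg : g ∈ H) (h1 : g ∈ centralizer (piCoreOf {q} H : Set G))
    (h2 : g ∈ centralizer (piCoreOf {r} H : Set G))
    (h3 : g ∈ centralizer (piCoreOf {s} H : Set G)) :
    g ∈ piCoreOf {q} H ⊔ piCoreOf {r} H ⊔ piCoreOf {s} H := by
  have h4 : g ∈ fittingOf H := by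
    apply mem_fitting' A.solvH hg
    intro t ht htd
    rcases A.primes_H ht htd with rfl | rfl | rfl
    · exact h1
    · exact h2
    · exact h3
  refine (fitting_le (K := piCoreOf {q} H ⊔ piCoreOf {r} H ⊔ piCoreOf {s} H) ?_) h4
  intro t ht htd
  rcases A.primes_H ht htd with rfl | rfl | rfl
  · exact le_sup_left.trans le_sup_left
  · exact le_sup_right.trans le_sup_left
  · exact le_sup_right

/-- the tool on `P` with the normal subgroup `X` of prime power order of `H` -/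
theorem fixP {t x : ℕ} (ht : t ∈ σ) (hx : x ∈ σ) (htx : t ≠ x) (htp : p ≠ t) (hpx : p ≠ x)
    {X : Subgroup G} (hX : IsPGroup x X) (hXH : X ≤ H) {h : G} (hh : orderOf h = t) (hH : h ∈ H)
    (hX' : h ∈ normalizer (X : Set G)) (hne : h ∉ centralizer (X : Set G)) :
    P ⊓ centralizer {h} ≠ ⊥ :=
  fix_ne_bot (A.C.prime t ht) (A.C.prime x hx) A.pp htx hpx htp (A.C.nf x hx t ht htx.symm) A.hP hX hh
    (A.nP hH) hX' (hXH.trans A.nP)
    (by rw [eq_bot_iff, ← A.faith]; exact inf_le_inf_right _ hXH) hne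

/-- Case A1: `F(H)` is a `q`-group. -/
theorem false_one (hr1 : piCoreOf {r} H = ⊥) (hs1 : piCoreOf {s} H = ⊥) : False := by
  set Q := piCoreOf {q} H with hQdef
  have hQ : IsPGroup q Q := isPGroup_piCoreOf A.qp H
  have hQH : Q ≤ H := piCoreOf_le _ _
  have hHQ : H ≤ normalizer (Q : Set G) := le_normalizer_piCoreOf _ _
  have hcQ : ∀ g ∈ H, g ∈ centralizer (Q : Set G) → g ∈ Q := by
    intro g hg hgc
    have h1 := A.mem_fit hg hgc (by rw [hr1]; exact mem_centralizer_bot g)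
      (by rw [hs1]; exact mem_centralizer_bot g)
    rwa [hr1, hs1, sup_bot_eq, sup_bot_eq] at h1
  obtain ⟨K, hKH⟩ := Cfsg.Agent.OddOrderLocal.HallPi.exists_isPiHallOf A.solvH ({r, s} : Set ℕ)
  have hK : IsPiHallOf {r, s} K ⊤ := Cfsg.Agent.OddOrderLocal.HallPi.isPiHallOf_trans hKH A.hall (by
    intro t _ ht
    simp only [Set.mem_insert_iff, Set.mem_singleton_iff] at ht ⊢
    exact Or.inr ht)
  have hKs : Group.IsSolvable K := by
    have := A.C.solv
    infer_instance
  have hKpi : ∀ t : ℕ, t.Prime → t ∣ Nat.card K → t = r ∨ t = s := by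
    intro t ht htd
    have := hK.2.1 t ht htd
    simpa using this
  have hfixP : ∀ h ∈ K, ∀ t : ℕ, (t = r ∨ t = s) → orderOf h = t → P ⊓ centralizer {h} ≠ ⊥ := by
    intro h hh t ht ho
    have htq : t ≠ q := by rcases ht with rfl | rfl; exacts [A.F.qr.symm, A.F.qs.symm]
    have hpt : p ≠ t := by rcases ht with rfl | rfl; exacts [A.F.pr, A.F.ps]
    have htσ : t ∈ σ := by rcases ht with rfl | rfl; exacts [A.F.mr, A.F.ms]
    apply A.fixP htσ A.F.mq htq hpt A.F.pq hQ hQH ho (hKH.1 hh) (hHQ (hKH.1 hh))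
    intro hc
    exact not_dvd_card A.qp (A.C.prime t htσ) htq hQ (dvd_card_of_mem (hcQ h (hKH.1 hh) hc) ho)
  have hfitK : ∀ {g : G}, g ∈ K → g ∈ centralizer (piCoreOf {r} K : Set G) →
      g ∈ centralizer (piCoreOf {s} K : Set G) → g ∈ piCoreOf {r} K ⊔ piCoreOf {s} K := by
    intro g hg h1 h2
    have h3 : g ∈ fittingOf K := by
      apply mem_fitting' hKs hg
      intro t ht htd
      rcases hKpi t ht htd with rfl | rfl
      · exact h1
      · exact h2
    refine (fitting_le (K := piCoreOf {r} K ⊔ piCoreOf {s} K) ?_) h3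
    intro t ht htd
    rcases hKpi t ht htd with rfl | rfl
    · exact le_sup_left
    · exact le_sup_right
  obtain ⟨a, haK, b, hbK, hab, har, hbs⟩ := A.C.pair_in_hall A.F.mr A.F.ms A.F.rs hK
  -- faithful action of the cores of `K` on `Q`
  have hcore : ∀ {t : ℕ}, (t = r ∨ t = s) → piCoreOf {t} K ⊓ centralizer (Q : Set G) = ⊥ := by
    intro t ht
    have htq : t ≠ q := by rcases ht with rfl | rfl; exacts [A.F.qr.symm, A.F.qs.symm]
    have htσ : t ∈ σ := by rcases ht with rfl | rfl; exacts [A.F.mr, A.F.ms]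
    by_contra hne
    obtain ⟨x, hx, hxt⟩ := exists_mem_of_ne_bot (A.C.prime t htσ)
      ((isPGroup_piCoreOf (A.C.prime t htσ) K).to_le inf_le_left) hne
    obtain ⟨h1, h2⟩ := mem_inf.mp hx
    exact not_dvd_card A.qp (A.C.prime t htσ) htq hQ
      (dvd_card_of_mem (hcQ x (hKH.1 (piCoreOf_le _ _ h1)) h2) hxt)
  by_cases hN : piCoreOf {r} K = ⊥
  · -- `F(K)` is an `s`-group
    have h1 : a ∉ centralizer (piCoreOf {s} K : Set G) := by
      intro hc
      have h2 := hfitK haK (by rw [hN]; exact mem_centralizer_bot a) hc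
      rw [hN, bot_sup_eq] at h2
      exact not_dvd_card A.sp A.rp A.F.rs (isPGroup_piCoreOf A.sp K) (dvd_card_of_mem h2 har)
    have h2 := fix_ne_bot A.rp A.sp A.qp A.F.rs A.F.qs A.F.qr (A.C.nf s A.F.ms r A.F.mr A.F.rs.symm)
      hQ (isPGroup_piCoreOf A.sp K) har (hHQ (hKH.1 haK)) (le_normalizer_piCoreOf {s} K haK)
      ((piCoreOf_le _ _).trans (hKH.1.trans hHQ)) (hcore (Or.inr rfl)) h1
    exact A.C.not_all A.F.swap23.swap12 har
      (dvd_cent_of_fix A.pp A.hP (hfixP a haK r (Or.inl rfl) har))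
      (dvd_cent_of_fix A.qp hQ h2) (dvd_cent_of_comm hbs hab)
  by_cases hM : piCoreOf {s} K = ⊥
  · have h1 : b ∉ centralizer (piCoreOf {r} K : Set G) := by
      intro hc
      have h2 := hfitK hbK hc (by rw [hM]; exact mem_centralizer_bot b)
      rw [hM, sup_bot_eq] at h2
      exact not_dvd_card A.rp A.sp A.F.rs.symm (isPGroup_piCoreOf A.rp K) (dvd_card_of_mem h2 hbs)
    have h2 := fix_ne_bot A.sp A.rp A.qp A.F.rs.symm A.F.qr A.F.qs (A.C.nf r A.F.mr s A.F.ms A.F.rs)
      hQ (isPGroup_piCoreOf A.rp K) hbs (hHQ (hKH.1 hbK)) (le_normalizer_piCoreOf {r} K hbK)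
      ((piCoreOf_le _ _).trans (hKH.1.trans hHQ)) (hcore (Or.inl rfl)) h1
    exact A.C.not_all A.F.swap34.swap23.swap12 hbs
      (dvd_cent_of_fix A.pp A.hP (hfixP b hbK s (Or.inr rfl) hbs))
      (dvd_cent_of_fix A.qp hQ h2) (dvd_cent_of_comm har hab.symm)
  · -- both cores are nontrivial
    obtain ⟨g, hg, hgr⟩ := exists_mem_of_ne_bot A.rp (isPGroup_piCoreOf A.rp K) hN
    obtain ⟨h, hh, hhs⟩ := exists_mem_of_ne_bot A.sp (isPGroup_piCoreOf A.sp K) hM
    have hgK : g ∈ K := piCoreOf_le _ _ hg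
    have hhK : h ∈ K := piCoreOf_le _ _ hh
    have hgh : Commute g h :=
      ((mem_centralizer_iff.mp (core_le_centralizer_core A.rp A.sp A.F.rs K hg) h hh).symm : g * h = h * g)
    have hg1 : Q ⊓ centralizer {g} = ⊥ := by
      by_contra hne
      exact A.C.not_all (A.F.swap23.swap12) hgr
        (dvd_cent_of_fix A.pp A.hP (hfixP g hgK r (Or.inl rfl) hgr))
        (dvd_cent_of_fix A.qp hQ hne) (dvd_cent_of_comm hhs hgh)
    have hh1 : Q ⊓ centralizer {h} = ⊥ := by
      by_contra hne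
      exact A.C.not_all (A.F.swap34.swap23.swap12) hhs
        (dvd_cent_of_fix A.pp A.hP (hfixP h hhK s (Or.inr rfl) hhs))
        (dvd_cent_of_fix A.qp hQ hne) (dvd_cent_of_comm hgr hgh.symm)
    have hQ1 : Q ≠ ⊥ := by
      intro hb
      have := hcQ g (hKH.1 hgK) (by rw [hb]; exact mem_centralizer_bot g)
      exact not_dvd_card A.qp A.rp A.F.qr.symm hQ (dvd_card_of_mem this hgr)
    have hPf : P ⊓ centralizer {g * h} = ⊥ := by
      by_contra hne
      obtain ⟨x, hx, hxp⟩ := exists_mem_of_ne_bot A.pp (A.hP.to_le inf_le_left) hne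
      have hx2 := (mem_fix.mp hx).2
      -- `x` commutes with `g` and `h`
      have hxg : Commute g x ∧ Commute h x := by
        have hgh' : orderOf (g * h) = r * s :=
          orderOf_mul hgh hgr hhs ((Nat.coprime_primes A.rp A.sp).mpr A.F.rs)
        have e1 : (g * h) ^ s = g ^ s := by rw [hgh.mul_pow, pow_eq_one hhs, mul_one]
        have e2 : (g * h) ^ r = h ^ r := by rw [hgh.mul_pow, pow_eq_one hgr, one_mul]
        have c1 : Commute (g ^ s) x := by rw [← e1]; exact hx2.pow_left s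
        have c2 : Commute (h ^ r) x := by rw [← e2]; exact hx2.pow_left r
        have z1 : g ∈ zpowers (g ^ s) := by
          apply zpowers_eq_of_mem hgr _ (pow_mem (mem_zpowers g) s)
          rw [Nat.Coprime.orderOf_pow, hgr]
          rw [hgr]
          exact ((Nat.coprime_primes A.rp A.sp).mpr A.F.rs)
        have z2 : h ∈ zpowers (h ^ r) := by
          apply zpowers_eq_of_mem hhs _ (pow_mem (mem_zpowers h) r)
          rw [Nat.Coprime.orderOf_pow, hhs]
          rw [hhs]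
          exact ((Nat.coprime_primes A.sp A.rp).mpr A.F.rs.symm)
        obtain ⟨n, hn⟩ := mem_zpowers_iff.mp z1
        obtain ⟨m, hm⟩ := mem_zpowers_iff.mp z2
        constructor
        · rw [← hn]; exact c1.zpow_left n
        · rw [← hm]; exact c2.zpow_left m
      exact A.C.no3 A.F.mr A.F.ms A.F.mp A.F.rs A.F.ps.symm A.F.pr.symm hgr hhs hxp hgh hxg.1 hxg.2
    have h1 := frob_two A.qp A.pp A.rp A.sp A.F.pq.symm A.F.pr.symm A.F.ps.symm A.F.rs hQ A.hP hQ1
      hgr hhs hgh (hHQ (hKH.1 hgK)) (hHQ (hKH.1 hhK)) (A.nP (hKH.1 hgK)) (A.nP (hKH.1 hhK))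
      (hQH.trans A.nP) hg1 hh1 hPf
    apply hQ1
    rw [eq_bot_iff, ← A.faith]
    exact le_inf hQH h1

end ACtx

end Cfsg.Agent.H381.Criterion
end

-- part: H381/CritA2
section
/-!
# The criterion: the Fitting subgroup is a `p`-group, two cores in the complement
-/

set_option autoImplicit false
set_option linter.unusedSectionVars false

namespace Cfsg.Agent.H381.Criterion

open Subgroup
open scoped commutatorElement
open Cfsg (piCoreOf fittingOf IsPiHallOf)
open Cfsg.Agent.H381.Tools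
open Cfsg.Agent.H381.Lucido
open Cfsg.Agent.OddOrderLocal.PiCoreOf (piCoreOf_le le_normalizer_piCoreOf)
open Cfsg.Agent.OddOrderLocal.FitCores (isPGroup_piCoreOf core_le_centralizer_core)
open Cfsg.Agent.SignalizersComponents.LocalGlobal (NoFixed)

universe u

variable {G : Type u} [Group G] [Finite G] {σ : Set ℕ} {p q r s : ℕ}

theorem orderOf_prime_pow {t : ℕ} (ht : t.Prime) {X : Subgroup G} (hX : IsPGroup t X) {x : G}
    (hx : x ∈ X) : ∃ k, orderOf x = t ^ k := by
  have : Fact t.Prime := ⟨ht⟩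
  obtain ⟨k, hk⟩ := IsPGroup.iff_orderOf.mp hX ⟨x, hx⟩
  exact ⟨k, by rw [← hk, Subgroup.orderOf_mk]⟩

theorem eq_one_of_prime_pow {a b : ℕ} (ha : a.Prime) (hb : b.Prime) (hab : a ≠ b) {x : G} {k l : ℕ}
    (h1 : orderOf x = a ^ k) (h2 : orderOf x ∣ b ^ l) : x = 1 := by
  rw [← orderOf_eq_one_iff]
  have h3 : (a ^ k).Coprime (b ^ l) := Nat.Coprime.pow _ _ ((Nat.coprime_primes ha hb).mpr hab)
  rw [h1] at h2 ⊢
  exact Nat.eq_one_of_dvd_coprimes h3 dvd_rfl h2

theorem orderOf_conj (g x : G) : orderOf (g * x * g⁻¹) = orderOf x := (MulAut.conj g).orderOf_eq x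

/-- if `[e, h] = x y` with suitable commutations and orders then `e`, `h` commute -/
theorem commute_of_orders (hq : q.Prime) (hr : r.Prime) (hs : s.Prime) (hqr : q ≠ r) (hqs : q ≠ s)
    {e h x y : G} (he : orderOf e = q) (hh : orderOf h = s) (hc : e * h * e⁻¹ * h⁻¹ = x * y)
    (hxy : Commute x y) (hhx : Commute h x) (hey : Commute e y) {k l m : ℕ}
    (hx : orderOf x = q ^ k) (hy : orderOf y = r ^ l) (hxe : orderOf (x⁻¹ * e) = q ^ m) :
    Commute e h := by
  have hy1 : y = 1 := by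
    have h1 : Commute y (x⁻¹ * e) := hxy.symm.inv_right.mul_right hey.symm
    have e1 : h * e * h⁻¹ = y⁻¹ * (x⁻¹ * e) := by
      have h2 : h * e * h⁻¹ = (e * h * e⁻¹ * h⁻¹)⁻¹ * e := by group
      rw [h2, hc]; group
    have h3 : orderOf (y⁻¹ * (x⁻¹ * e)) = orderOf y⁻¹ * orderOf (x⁻¹ * e) := by
      apply h1.inv_left.orderOf_mul_eq_mul_orderOf_of_coprime
      rw [orderOf_inv, hy, hxe]
      exact Nat.Coprime.pow _ _ ((Nat.coprime_primes hr hq).mpr hqr.symm)
    have h4 : orderOf (h * e * h⁻¹) = q ^ 1 := by rw [orderOf_conj, he, pow_one]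
    rw [e1, h3, orderOf_inv] at h4
    exact eq_one_of_prime_pow hr hq hqr.symm hy (Dvd.intro _ h4)
  rw [hy1, mul_one] at hc
  have hx1 : x = 1 := by
    have e2 : e * h * e⁻¹ = x * h := by rw [← hc]; group
    have h3 : orderOf (x * h) = orderOf x * orderOf h := by
      apply hhx.symm.orderOf_mul_eq_mul_orderOf_of_coprime
      rw [hx, hh]
      exact Nat.Coprime.pow_left _ ((Nat.coprime_primes hq hs).mpr hqs)
    have h4 : orderOf (e * h * e⁻¹) = s ^ 1 := by rw [orderOf_conj, hh, pow_one]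
    rw [e2, h3] at h4
    exact eq_one_of_prime_pow hq hs hqs hx (Dvd.intro _ h4)
  rw [hx1] at hc
  have : e * h = h * e := by
    calc e * h = (e * h * e⁻¹ * h⁻¹) * (h * e) := by group
      _ = h * e := by rw [hc, one_mul]
  exact this

/-- an element of prime order of a `p`-group which is central -/
theorem exists_central {t : ℕ} (ht : t.Prime) {X : Subgroup G} (hX : IsPGroup t X) (hne : X ≠ ⊥) :
    ∃ z ∈ X, orderOf z = t ∧ ∀ y ∈ X, Commute z y := by
  have htf : Fact t.Prime := ⟨ht⟩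
  have h0 := Cfsg.Agent.PLocal.OffenderStep.inf_centralizer_ne_bot X X hX hX
    le_normalizer hne
  obtain ⟨z, hz, hzt⟩ := exists_mem_of_ne_bot ht (hX.to_le inf_le_left) h0
  exact ⟨z, (mem_inf.mp hz).1, hzt, fun y hy =>
    ((mem_centralizer_iff.mp (mem_inf.mp hz).2 y hy).symm : z * y = y * z)⟩

/-- If no two independent commuting elements of order `t` of the `t`-group `X` exist then `X` has
only one subgroup of order `t`. -/
theorem exists_unique {t : ℕ} (ht : t.Prime) {X : Subgroup G} (hX : IsPGroup t X) (hne : X ≠ ⊥)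
    (h : ∀ a ∈ X, ∀ b ∈ X, orderOf a = t → orderOf b = t → Commute a b → b ∈ zpowers a) :
    ∃ z ∈ X, orderOf z = t ∧ ∀ y ∈ X, orderOf y = t → y ∈ zpowers z := by
  obtain ⟨z, hz, hzt, hzc⟩ := exists_central ht hX hne
  exact ⟨z, hz, hzt, fun y hy hyt => h z hz y hy hzt hyt (hzc y hy)⟩

/-- an element normalising `X` normalises its unique subgroup of order `t` -/
theorem mem_normalizer_unique {t : ℕ} {X : Subgroup G} {z g : G}
    (hz : z ∈ X) (hzt : orderOf z = t) (hu : ∀ y ∈ X, orderOf y = t → y ∈ zpowers z)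
    (hg : g ∈ normalizer (X : Set G)) : g ∈ normalizer (zpowers z : Set G) := by
  apply Cfsg.Agent.OddOrderLocal.Thm34.mem_normalizer_of_conj (orderOf_pos g) (pow_orderOf_eq_one g)
  intro k hk
  obtain ⟨n, rfl⟩ := mem_zpowers_iff.mp hk
  have h3 := hu _ ((mem_normalizer_iff.mp hg z).mp hz) (by rw [orderOf_conj, hzt])
  have h4 : g * z ^ n * g⁻¹ = (g * z * g⁻¹) ^ n := by rw [conj_zpow]
  rw [h4]
  exact zpow_mem h3 n

/-- an element of order prime to `t - 1` normalising a subgroup of prime order `t` -/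
theorem commute_of_coprime {t : ℕ} (ht : t.Prime) {z g : G} (hzt : orderOf z = t)
    (hg : g ∈ normalizer (zpowers z : Set G)) (hcop : (orderOf g).Coprime (t - 1)) : Commute g z :=
  Cfsg.Agent.J3Type.Closing.comm_of_coprime ht (zpowers z) (by rw [Nat.card_zpowers, hzt]) g hg hcop z
    (mem_zpowers z)

theorem commute_of_prime {t w : ℕ} (ht : t.Prime) (hw : w.Prime) {z g : G} (hzt : orderOf z = t)
    (hgw : orderOf g = w) (hg : g ∈ normalizer (zpowers z : Set G)) (hd : ¬ w ∣ t - 1) :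
    Commute g z :=
  commute_of_coprime ht hzt hg (by rw [hgw]; exact (hw.coprime_iff_not_dvd).mpr hd)

theorem commute_of_self {t : ℕ} (ht : t.Prime) {z g : G} (hzt : orderOf z = t) {k : ℕ}
    (hgt : orderOf g = t ^ k) (hg : g ∈ normalizer (zpowers z : Set G)) : Commute g z := by
  apply commute_of_coprime ht hzt hg
  rw [hgt]
  apply Nat.Coprime.pow_left
  rw [ht.coprime_iff_not_dvd]
  intro hd
  have := Nat.le_of_dvd (by have := ht.two_le; omega) hd
  have := ht.two_le
  omega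

/-- fixed points depend only on the subgroup of prime order -/
theorem fix_of_mem_zpowers {t : ℕ} {V : Subgroup G} {x y : G} (hx : orderOf x = t)
    (hy : orderOf y = t) (h : y ∈ zpowers x) (hV : V ⊓ centralizer {x} = ⊥) :
    V ⊓ centralizer {y} = ⊥ := by
  have h1 := zpowers_eq_of_mem hx hy h
  rw [eq_bot_iff, ← hV]
  apply inf_le_inf_left
  intro c hc
  rw [mem_cent_iff] at hc ⊢
  obtain ⟨n, hn⟩ := mem_zpowers_iff.mp h1
  rw [← hn]
  exact hc.zpow_left n

/-- if all elements of order `t` of the `t`-group `X` have no fixed points on `V`, then `X` has a unique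
subgroup of order `t` -/
theorem exists_unique_of_fpf {t : ℕ} (ht : t.Prime) {X V : Subgroup G} (hX : IsPGroup t X)
    (hne : X ≠ ⊥) (hV : ¬ t ∣ Nat.card V) (hV1 : V ≠ ⊥) (hXV : X ≤ normalizer (V : Set G))
    (hf : ∀ a ∈ X, orderOf a = t → V ⊓ centralizer {a} = ⊥) :
    ∃ z ∈ X, orderOf z = t ∧ ∀ y ∈ X, orderOf y = t → y ∈ zpowers z := by
  apply exists_unique ht hX hne
  intro a ha b hb hat hbt hab
  by_contra hcon
  obtain ⟨e, he, het, heV⟩ := exists_fixed ht hat hbt hab hcon V hV hV1 (hXV ha) (hXV hb)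
  apply heV
  apply hf e _ het
  have : zpowers a ⊔ zpowers b ≤ X := by
    rw [sup_le_iff, zpowers_le, zpowers_le]; exact ⟨ha, hb⟩
  exact this he

/-- an element commuting with `g h` commutes with both if the orders are different primes -/
theorem commute_of_mul (hr : r.Prime) (hs : s.Prime) (hrs : r ≠ s) {g h x : G}
    (hg : orderOf g = r) (hh : orderOf h = s) (hgh : Commute g h) (hx : Commute (g * h) x) :
    Commute g x ∧ Commute h x := by
  have e1 : (g * h) ^ s = g ^ s := by rw [hgh.mul_pow, pow_eq_one hh, mul_one]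
  have e2 : (g * h) ^ r = h ^ r := by rw [hgh.mul_pow, pow_eq_one hg, one_mul]
  have c1 : Commute (g ^ s) x := by rw [← e1]; exact hx.pow_left s
  have c2 : Commute (h ^ r) x := by rw [← e2]; exact hx.pow_left r
  have z1 : g ∈ zpowers (g ^ s) := by
    apply zpowers_eq_of_mem hg _ (pow_mem (mem_zpowers g) s)
    rw [Nat.Coprime.orderOf_pow, hg]
    rw [hg]
    exact ((Nat.coprime_primes hr hs).mpr hrs)
  have z2 : h ∈ zpowers (h ^ r) := by
    apply zpowers_eq_of_mem hh _ (pow_mem (mem_zpowers h) r)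
    rw [Nat.Coprime.orderOf_pow, hh]
    rw [hh]
    exact ((Nat.coprime_primes hs hr).mpr hrs.symm)
  obtain ⟨n, hn⟩ := mem_zpowers_iff.mp z1
  obtain ⟨m, hm⟩ := mem_zpowers_iff.mp z2
  constructor
  · rw [← hn]; exact c1.zpow_left n
  · rw [← hm]; exact c2.zpow_left m

namespace ACtx

variable {P H : Subgroup G} (A : ACtx σ p q r s P H)
include A

/-- the end of case A2: `O_s(H) = 1` and all elements of order `q` of `O_q(H)` are fixed point free on
`P`. -/
theorem false_two_aux (hQ1 : piCoreOf {q} H ≠ ⊥) (hR1 : piCoreOf {r} H ≠ ⊥)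
    (hS1 : piCoreOf {s} H = ⊥)
    (hα : ∀ y ∈ piCoreOf {q} H, orderOf y = q → P ⊓ centralizer {y} = ⊥) : False := by
  have hsol : Group.IsSolvable G := A.C.solv
  set Q := piCoreOf {q} H with hQdef
  set R := piCoreOf {r} H with hRdef
  have hQ : IsPGroup q Q := isPGroup_piCoreOf A.qp H
  have hR : IsPGroup r R := isPGroup_piCoreOf A.rp H
  have hQH : Q ≤ H := piCoreOf_le _ _
  have hRH : R ≤ H := piCoreOf_le _ _
  have hHQ : H ≤ normalizer (Q : Set G) := le_normalizer_piCoreOf _ _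
  have hHR : H ≤ normalizer (R : Set G) := le_normalizer_piCoreOf _ _
  have hQR : ∀ x ∈ Q, ∀ y ∈ R, Commute x y := fun x hx y hy =>
    ((mem_centralizer_iff.mp (core_le_centralizer_core A.qp A.rp A.F.qr H hx) y hy).symm :
      x * y = y * x)
  -- (f1)
  have f1 : ∀ g ∈ H, g ∈ centralizer (Q : Set G) → g ∈ centralizer (R : Set G) → g ∈ Q ⊔ R := by
    intro g hg h1 h2
    have h3 := A.mem_fit hg h1 h2 (by rw [hS1]; exact mem_centralizer_bot g)
    rwa [hS1, sup_bot_eq] at h3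
  have hsQR : ∀ g ∈ Q ⊔ R, orderOf g ≠ s := by
    intro g hg ho
    have hd := dvd_card_of_mem hg ho
    have hd2 := hd.trans (Cfsg.Agent.SignalizersComponents.CoprimeBasic.card_sup_dvd (hRH.trans hHQ))
    rcases (Nat.Prime.dvd_mul A.sp).mp hd2 with h | h
    · exact not_dvd_card A.qp A.sp A.F.qs.symm hQ h
    · exact not_dvd_card A.rp A.sp A.F.rs.symm hR h
  -- (f2)
  have f2 : ∀ h ∈ H, orderOf h = s → P ⊓ centralizer {h} ≠ ⊥ := by
    intro h hh ho
    by_cases h1 : h ∈ centralizer (Q : Set G)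
    · have h2 : h ∉ centralizer (R : Set G) := fun h2 => hsQR h (f1 h hh h1 h2) ho
      exact A.fixP A.F.ms A.F.mr A.F.rs.symm A.F.ps A.F.pr hR hRH ho hh (hHR hh) h2
    · exact A.fixP A.F.ms A.F.mq A.F.qs.symm A.F.ps A.F.pq hQ hQH ho hh (hHQ hh) h1
  -- (f3)
  have f3 : ∀ h ∈ H, orderOf h = s → Q ⊓ centralizer {h} ≠ ⊥ → R ⊓ centralizer {h} ≠ ⊥ → False := by
    intro h hh ho h1 h2
    exact A.C.not_all (A.F.swap34.swap23.swap12) ho
      (dvd_cent_of_fix A.pp A.hP (f2 h hh ho)) (dvd_cent_of_fix A.qp hQ h1)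
      (dvd_cent_of_fix A.rp hR h2)
  -- a Sylow `s`-subgroup of `H`
  obtain ⟨S, hSH⟩ := Cfsg.Agent.OddOrderLocal.HallPi.exists_isPiHallOf A.solvH ({s} : Set ℕ)
  have hS : IsPiHallOf {s} S ⊤ := Cfsg.Agent.OddOrderLocal.HallPi.isPiHallOf_trans hSH A.hall (by
    intro t _ ht
    rw [Set.mem_singleton_iff] at ht
    rw [ht]; simp)
  have hSs : IsPGroup s S := (Cfsg.Agent.OddOrderLocal.PiCoreOf.isPi_singleton_iff A.sp S).mp hS.2.1
  obtain ⟨e, heS, e', heS', he, he', hee', hne⟩ :=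
    A.C.exists_indep (A.F.swap34.swap23.swap12) hS hSs
  have hEH : zpowers e ⊔ zpowers e' ≤ H := by
    rw [sup_le_iff, zpowers_le, zpowers_le]; exact ⟨hSH.1 heS, hSH.1 heS'⟩
  obtain ⟨hq, hqE, hqs, hqQ⟩ := exists_fixed A.sp he he' hee' hne Q
    (not_dvd_card A.qp A.sp A.F.qs.symm hQ) hQ1 (hHQ (hSH.1 heS)) (hHQ (hSH.1 heS'))
  obtain ⟨hr, hrE, hrs, hrR⟩ := exists_fixed A.sp he he' hee' hne R
    (not_dvd_card A.rp A.sp A.F.rs.symm hR) hR1 (hHR (hSH.1 heS)) (hHR (hSH.1 heS'))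
  have hqH : hq ∈ H := hEH hqE
  have hrH : hr ∈ H := hEH hrE
  have hrQ : Q ⊓ centralizer {hr} = ⊥ := by
    by_contra h; exact f3 hr hrH hrs h hrR
  -- the unique subgroup of order `q` of `Q`
  obtain ⟨x₀, hx₀Q, hx₀q, hu⟩ := exists_unique_of_fpf A.qp hQ hQ1
    (not_dvd_card A.pp A.qp A.F.pq.symm A.hP) A.P1 (hQH.trans A.nP) hα
  have hx₀H : x₀ ∈ H := hQH hx₀Q
  have hHx : ∀ g ∈ H, g ∈ normalizer (zpowers x₀ : Set G) := fun g hg =>
    mem_normalizer_unique hx₀Q hx₀q hu (hHQ hg)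
  -- `s ∣ q - 1`
  have hsq : s ∣ q - 1 := by
    by_contra hd
    have h1 := commute_of_prime A.qp A.sp hx₀q hrs (hHx hr hrH) hd
    have h2 : x₀ ∈ Q ⊓ centralizer {hr} := mem_fix.mpr ⟨hx₀Q, h1⟩
    rw [hrQ, mem_bot] at h2
    rw [h2, orderOf_one] at hx₀q
    exact A.qp.one_lt.ne hx₀q
  have hq2 : q ≠ 2 := by
    intro h2
    rw [h2] at hsq
    have := Nat.le_of_dvd (by norm_num) hsq
    have := A.sp.two_le
    omega
  have hqf : Fact q.Prime := ⟨A.qp⟩
  have hrf : Fact r.Prime := ⟨A.rp⟩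
  have hsf : Fact s.Prime := ⟨A.sp⟩
  have hpf : Fact p.Prime := ⟨A.pp⟩
  have hcopsq : ∀ {h : G}, orderOf h = s → (Nat.card (zpowers h)).Coprime q := by
    intro h hh
    rw [Nat.card_zpowers, hh]
    exact (Nat.coprime_primes A.sp A.qp).mpr A.F.qs.symm
  -- a subgroup `X` whose elements of order `q` commute with `h` is centralised by `h`
  have hS1443 : ∀ {X : Subgroup G} {h : G}, IsPGroup q X → h ∈ normalizer (X : Set G) →
      orderOf h = s → (∀ x ∈ X, orderOf x = q → Commute h x) → h ∈ centralizer (X : Set G) := by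
    intro X h hX hhX hh hc
    have h1 := Cfsg.Agent.S1443.result q hq2 X ⊥ (zpowers h) hX bot_le
      ⟨⟨⟨fun a b => Subsingleton.elim _ _⟩⟩, fun a ha => by rw [mem_bot.mp ha, one_pow]⟩
      (by rwa [zpowers_le]) (hcopsq hh) (by
        intro x hx hxq
        rw [zpowers_le]
        exact mem_cent_iff.mpr (hc x (mem_inf.mp hx).1 hxq).symm)
    exact h1 (mem_zpowers h)
  -- `h_q` centralises `Q`
  have hqx₀ : Commute hq x₀ := by
    obtain ⟨x, hx, hxq⟩ := exists_mem_of_ne_bot A.qp (hQ.to_le inf_le_left) hqQ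
    rw [mem_fix] at hx
    obtain ⟨n, hn⟩ := mem_zpowers_iff.mp (zpowers_eq_of_mem hx₀q hxq (hu x hx.1 hxq))
    rw [← hn]
    exact hx.2.zpow_right n
  have hcommx₀ : ∀ {h : G}, Commute h x₀ → ∀ x ∈ zpowers x₀, Commute h x := by
    intro h hh x hx
    obtain ⟨n, hn⟩ := mem_zpowers_iff.mp hx
    rw [← hn]
    exact hh.zpow_right n
  have hqcQ : hq ∈ centralizer (Q : Set G) := by
    apply hS1443 hQ (hHQ hqH) hqs
    intro x hx hxq
    exact hcommx₀ hqx₀ x (hu x hx hxq)
  -- (g2)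
  have g2 : ∀ e ∈ H, orderOf e = q → Commute e x₀ → e ∈ centralizer (R : Set G) →
      e ∈ zpowers x₀ := by
    intro e heH heq hex₀ heR
    by_contra hne
    obtain ⟨f, hf, hfq, hfP⟩ := exists_fixed A.qp hx₀q heq hex₀.symm hne P
      (not_dvd_card A.pp A.qp A.F.pq.symm A.hP) A.P1 (A.nP hx₀H) (A.nP heH)
    have hfH : f ∈ H := by
      have : zpowers x₀ ⊔ zpowers e ≤ H := by
        rw [sup_le_iff, zpowers_le, zpowers_le]; exact ⟨hx₀H, heH⟩
      exact this hf
    have hx₀R : x₀ ∈ centralizer (R : Set G) := core_le_centralizer_core A.qp A.rp A.F.qr H hx₀Q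
    have hfR : f ∈ centralizer (R : Set G) := by
      have : zpowers x₀ ⊔ zpowers e ≤ centralizer (R : Set G) := by
        rw [sup_le_iff, zpowers_le, zpowers_le]; exact ⟨hx₀R, heR⟩
      exact this hf
    -- `f` commutes with `h_q`
    have hnorm : ∀ {X : Subgroup G}, H ≤ normalizer (X : Set G) → ∀ k ∈ H,
        ∀ c ∈ centralizer (X : Set G), k * c * k⁻¹ ∈ centralizer (X : Set G) := by
      intro X hX k hk c hc
      exact (mem_normalizer_iff.mp (normalizer_le_normalizer_centralizer X (hX hk)) c).mp hc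
    have hcR : f * hq * f⁻¹ * hq⁻¹ ∈ centralizer (R : Set G) := by
      have h1 := hnorm hHR hq hqH f⁻¹ (inv_mem hfR)
      have h2 : f * hq * f⁻¹ * hq⁻¹ = f * (hq * f⁻¹ * hq⁻¹) := by group
      rw [h2]; exact mul_mem hfR h1
    have hcQ : f * hq * f⁻¹ * hq⁻¹ ∈ centralizer (Q : Set G) :=
      mul_mem (hnorm hHQ f hfH hq hqcQ) (inv_mem hqcQ)
    have hcH : f * hq * f⁻¹ * hq⁻¹ ∈ H :=
      mul_mem (mul_mem (mul_mem hfH hqH) (inv_mem hfH)) (inv_mem hqH)
    obtain ⟨x, hx, y, hy, hxy⟩ := (Cfsg.Agent.SignalizersComponents.CoprimeBasic.mem_sup_iff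
      (hRH.trans hHQ) _).mp (f1 _ hcH hcQ hcR)
    have hfq' : Commute f hq := by
      obtain ⟨k, hk⟩ := orderOf_prime_pow A.qp hQ hx
      obtain ⟨l, hl⟩ := orderOf_prime_pow A.rp hR hy
      -- `Q ⟨f⟩` is a `q`-group
      have hQf : IsPGroup q (Q ⊔ zpowers f : Subgroup G) := by
        have h1 : IsPGroup q (zpowers f) := isPGroup_zpowers A.qp hfq
        exact IsPGroup.to_sup_of_normal_left' hQ h1 (by rw [zpowers_le]; exact hHQ hfH)
      obtain ⟨m, hm⟩ := orderOf_prime_pow A.qp hQf (x := x⁻¹ * f)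
        (mul_mem (le_sup_left (a := Q) (inv_mem hx)) (le_sup_right (a := Q) (mem_zpowers f)))
      exact commute_of_orders A.qp A.rp A.sp A.F.qr A.F.qs hfq hqs hxy.symm (hQR x hx y hy)
        (mem_centralizer_iff.mp hqcQ x hx).symm (mem_centralizer_iff.mp hfR y hy).symm hk hl hm
    obtain ⟨y', hy', hyr⟩ := exists_mem_of_ne_bot A.rp hR hR1
    exact A.C.not_all A.F.swap12 hfq (dvd_cent_of_fix A.pp A.hP hfP)
      (dvd_cent_of_comm hyr (mem_centralizer_iff.mp hfR y' hy').symm) (dvd_cent_of_comm hqs hfq')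
  -- a Sylow `q`-subgroup of `H`
  obtain ⟨Q', hQ'H⟩ := Cfsg.Agent.OddOrderLocal.HallPi.exists_isPiHallOf A.solvH ({q} : Set ℕ)
  have hQ' : IsPiHallOf {q} Q' ⊤ := Cfsg.Agent.OddOrderLocal.HallPi.isPiHallOf_trans hQ'H A.hall (by
    intro t _ ht
    rw [Set.mem_singleton_iff] at ht
    rw [ht]; simp)
  have hQ'q : IsPGroup q Q' := (Cfsg.Agent.OddOrderLocal.PiCoreOf.isPi_singleton_iff A.qp Q').mp hQ'.2.1
  set C₁ := H ⊓ centralizer {x₀} with hC₁
  have hQ'C₁ : Q' ≤ C₁ := by
    intro g hg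
    obtain ⟨k, hk⟩ := orderOf_prime_pow A.qp hQ'q hg
    exact mem_fix.mpr ⟨hQ'H.1 hg, (commute_of_self A.qp hx₀q hk (hHx g (hQ'H.1 hg))).symm⟩
  obtain ⟨T, hT, hQ'T⟩ := Cfsg.Agent.OddOrderLocal.HallPi.exists_isPiHallOf_ge (M := C₁)
    inferInstance ({q, s} : Set ℕ) hQ'C₁ (by
      intro t ht htd
      have := hQ'.2.1 t ht htd
      rw [Set.mem_singleton_iff] at this
      rw [this]; simp)
  have hTH : T ≤ H := hT.1.trans inf_le_left
  have hTx : ∀ g ∈ T, Commute x₀ g := fun g hg => (mem_fix.mp (hT.1 hg)).2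
  have hTpi : ∀ t : ℕ, t.Prime → t ∣ Nat.card T → t = q ∨ t = s := by
    intro t ht htd
    have := hT.2.1 t ht htd
    simpa using this
  have hTs : Group.IsSolvable T := inferInstance
  have hsT : s ∣ Nat.card T := by
    apply Cfsg.Agent.OddOrderLocal.HallPi.prime_dvd_card hT A.sp (by simp)
    exact dvd_card_of_mem (mem_fix.mpr ⟨hqH, hqx₀.symm⟩ : hq ∈ C₁) hqs
  -- (g4)
  have g4 : ∀ h ∈ T, orderOf h = s → R ⊓ centralizer {h} = ⊥ := by
    intro h hh ho
    by_contra hne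
    exact A.C.not_all (A.F.swap34.swap23.swap12) ho
      (dvd_cent_of_fix A.pp A.hP (f2 h (hTH hh) ho)) (dvd_cent_of_comm hx₀q (hTx h hh).symm)
      (dvd_cent_of_fix A.rp hR hne)
  -- `O_s(T) ≠ 1`
  have hOs : piCoreOf {s} T ≠ ⊥ := by
    intro hbot
    obtain ⟨h, hhT, hhs⟩ := exists_mem_of_dvd A.sp hsT
    set D := piCoreOf {q} T with hD
    have hDq : IsPGroup q D := isPGroup_piCoreOf A.qp T
    have hDT : D ≤ T := piCoreOf_le _ _
    have hTD : T ≤ normalizer (D : Set G) := le_normalizer_piCoreOf _ _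
    have h1 : ⁅D, zpowers h⁆ ≤ centralizer (R : Set G) :=
      tool A.sp A.qp A.rp A.F.qs.symm A.F.qr.symm A.F.rs (A.C.nf q A.F.mq s A.F.ms A.F.qs) hR hDq hhs
        (hHR (hTH hhT)) (hTD hhT) ((hDT.trans hTH).trans hHR) (g4 h hhT hhs)
    have h2 : ⁅D, zpowers h⁆ ≤ D := commutator_zpowers_le (hTD hhT)
    have hnY : h ∈ normalizer ((D ⊓ centralizer (R : Set G) : Subgroup G) : Set G) := by
      apply le_normalizer_inf (A := T) hTD
        ((hTH.trans hHR).trans (normalizer_le_normalizer_centralizer R)) hhT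
    have h3 : h ∈ centralizer ((D ⊓ centralizer (R : Set G) : Subgroup G) : Set G) := by
      apply hS1443 (hDq.to_le inf_le_left) hnY hhs
      intro x hx hxq
      obtain ⟨hxD, hxR⟩ := mem_inf.mp hx
      have hxT := hDT hxD
      exact hcommx₀ (hTx h hhT).symm x (g2 x (hTH hxT) hxq (hTx x hxT).symm hxR)
    have h4 := Cfsg.Agent.Lib.CoprimeCommutator.le_centralizer_of_commutator_le (zpowers h) D
      (D ⊓ centralizer (R : Set G)) (by rw [zpowers_le]; exact hTD hhT)
      (by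
        rw [Nat.card_zpowers, hhs, Nat.coprime_comm]
        exact coprime_pow_card A.qp hDq (fun hd => A.F.qs ((Nat.prime_dvd_prime_iff_eq A.qp A.sp).mp hd)))
      (le_inf h2 h1) (by rwa [zpowers_le])
    have h5 : h ∈ centralizer (D : Set G) := h4 (mem_zpowers h)
    have h6 : h ∈ fittingOf T := by
      apply mem_fitting' hTs hhT
      intro t ht htd
      rcases hTpi t ht htd with rfl | rfl
      · exact h5
      · rw [hbot]; exact mem_centralizer_bot h
    have h7 : fittingOf T ≤ D := by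
      apply fitting_le
      intro t ht htd
      rcases hTpi t ht htd with rfl | rfl
      · exact le_rfl
      · rw [hbot]; exact bot_le
    exact not_dvd_card A.qp A.sp A.F.qs.symm hDq (dvd_card_of_mem (h7 h6) hhs)
  have hOsT : piCoreOf {s} T ≤ T := piCoreOf_le _ _
  obtain ⟨h₀, hh₀, hh₀s, hh₀u⟩ := exists_unique_of_fpf A.sp (isPGroup_piCoreOf A.sp T) hOs
    (not_dvd_card A.rp A.sp A.F.rs.symm hR) hR1 ((hOsT.trans hTH).trans hHR)
    (fun a ha has => g4 a (hOsT ha) has)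
  have hh₀T : h₀ ∈ T := hOsT hh₀
  -- another element of order `q`
  obtain ⟨x₁, hx₁Q, hx₁q, hx₁ne⟩ := A.C.exists_other (A.F.swap12) hQ' hx₀q
  have hx₁T : x₁ ∈ T := hQ'T hx₁Q
  have hx₁H : x₁ ∈ H := hTH hx₁T
  have hx₁R : x₁ ∉ centralizer (R : Set G) := fun hc =>
    hx₁ne (g2 x₁ hx₁H hx₁q (hTx x₁ hx₁T).symm hc)
  have hx₁P : P ⊓ centralizer {x₁} ≠ ⊥ :=
    A.fixP A.F.mq A.F.mr A.F.qr A.F.pq A.F.pr hR hRH hx₁q hx₁H (hHR hx₁H) hx₁R
  have hcomm : Commute x₁ h₀ := by
    apply commute_of_prime A.sp A.qp hh₀s hx₁q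
      (mem_normalizer_unique hh₀ hh₀s hh₀u (le_normalizer_piCoreOf {s} T hx₁T))
    intro hd
    have h1 := Nat.le_of_dvd (by have := A.qp.two_le; omega) hsq
    have h2 := Nat.le_of_dvd (by have := A.sp.two_le; omega) hd
    have := A.qp.two_le
    omega
  have hx₁R' : R ⊓ centralizer {x₁} = ⊥ := by
    by_contra hne
    exact A.C.not_all A.F.swap12 hx₁q (dvd_cent_of_fix A.pp A.hP hx₁P)
      (dvd_cent_of_fix A.rp hR hne) (dvd_cent_of_comm hh₀s hcomm)
  have hPf : P ⊓ centralizer {x₁ * h₀} = ⊥ := by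
    by_contra hne
    obtain ⟨x, hx, hxp⟩ := exists_mem_of_ne_bot A.pp (A.hP.to_le inf_le_left) hne
    obtain ⟨c1, c2⟩ := commute_of_mul A.qp A.sp A.F.qs hx₁q hh₀s hcomm (mem_fix.mp hx).2
    exact A.C.no3 A.F.mq A.F.ms A.F.mp A.F.qs A.F.ps.symm A.F.pq.symm hx₁q hh₀s hxp hcomm c1 c2
  have h1 := frob_two A.rp A.pp A.qp A.sp A.F.pr.symm A.F.pq.symm A.F.ps.symm A.F.qs hR A.hP hR1
    hx₁q hh₀s hcomm (hHR hx₁H) (hHR (hTH hh₀T)) (A.nP hx₁H) (A.nP (hTH hh₀T))
    (hRH.trans A.nP) hx₁R' (g4 h₀ hh₀T hh₀s) hPf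
  apply hR1
  rw [eq_bot_iff, ← A.faith]
  exact le_inf hRH h1

/-- **Case A2**: `O_q(H), O_r(H) ≠ 1`, `O_s(H) = 1`. -/
theorem false_two (hQ1 : piCoreOf {q} H ≠ ⊥) (hR1 : piCoreOf {r} H ≠ ⊥)
    (hS1 : piCoreOf {s} H = ⊥) : False := by
  by_cases hα : ∀ y ∈ piCoreOf {q} H, orderOf y = q → P ⊓ centralizer {y} = ⊥
  · exact A.false_two_aux hQ1 hR1 hS1 hα
  by_cases hβ : ∀ y ∈ piCoreOf {r} H, orderOf y = r → P ⊓ centralizer {y} = ⊥
  · exact A.swap23.false_two_aux hR1 hQ1 hS1 hβ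
  push Not at hα hβ
  obtain ⟨y, hy, hyq, hyP⟩ := hα
  obtain ⟨y', hy', hyr', hyP'⟩ := hβ
  have hsol : Group.IsSolvable G := A.C.solv
  set Q := piCoreOf {q} H with hQdef
  set R := piCoreOf {r} H with hRdef
  have hQ : IsPGroup q Q := isPGroup_piCoreOf A.qp H
  have hR : IsPGroup r R := isPGroup_piCoreOf A.rp H
  have hQH : Q ≤ H := piCoreOf_le _ _
  have hRH : R ≤ H := piCoreOf_le _ _
  have hHQ : H ≤ normalizer (Q : Set G) := le_normalizer_piCoreOf _ _
  have hHR : H ≤ normalizer (R : Set G) := le_normalizer_piCoreOf _ _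
  have hQR : ∀ x ∈ Q, ∀ y ∈ R, Commute x y := fun x hx y hy =>
    ((mem_centralizer_iff.mp (core_le_centralizer_core A.qp A.rp A.F.qr H hx) y hy).symm :
      x * y = y * x)
  -- the unique subgroup of order `r` of `R`
  obtain ⟨z, hzR, hzr, hu⟩ := exists_unique A.rp hR hR1 (by
    intro a ha b hb har hbr hab
    by_contra hne
    exact hyP (A.C.fix_eq_bot A.F.mr A.F.mq A.F.mp A.F.qr.symm A.F.pq.symm A.F.pr.symm har hbr hab
      hne hyq (hQR y hy a ha).symm (hQR y hy b hb).symm A.hP (A.nP (hRH ha)) (A.nP (hRH hb))))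
  -- an element of order `s` with fixed points on `R`
  obtain ⟨S, hSH⟩ := Cfsg.Agent.OddOrderLocal.HallPi.exists_isPiHallOf A.solvH ({s} : Set ℕ)
  have hS : IsPiHallOf {s} S ⊤ := Cfsg.Agent.OddOrderLocal.HallPi.isPiHallOf_trans hSH A.hall (by
    intro t _ ht
    rw [Set.mem_singleton_iff] at ht
    rw [ht]; simp)
  have hSs : IsPGroup s S := (Cfsg.Agent.OddOrderLocal.PiCoreOf.isPi_singleton_iff A.sp S).mp hS.2.1
  obtain ⟨e, heS, e', heS', he, he', hee', hne⟩ :=
    A.C.exists_indep (A.F.swap34.swap23.swap12) hS hSs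
  obtain ⟨h, hhE, hhs, hhR⟩ := exists_fixed A.sp he he' hee' hne R
    (not_dvd_card A.rp A.sp A.F.rs.symm hR) hR1 (hHR (hSH.1 heS)) (hHR (hSH.1 heS'))
  obtain ⟨x, hx, hxr⟩ := exists_mem_of_ne_bot A.rp (hR.to_le inf_le_left) hhR
  rw [mem_fix] at hx
  have hzP : P ⊓ centralizer {z} ≠ ⊥ := by
    intro hb
    exact hyP' (fix_of_mem_zpowers hzr hyr' (hu y' hy' hyr') hb)
  have hxP : P ⊓ centralizer {x} ≠ ⊥ := by
    intro hb
    exact hzP (fix_of_mem_zpowers hxr hzr (zpowers_eq_of_mem hzr hxr (hu x hx.1 hxr)) hb)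
  obtain ⟨w, hw, hwq⟩ := exists_mem_of_ne_bot A.qp hQ hQ1
  exact A.C.not_all (A.F.swap23.swap12) hxr (dvd_cent_of_fix A.pp A.hP hxP)
    (dvd_cent_of_comm hwq (hQR w hw x hx.1).symm) (dvd_cent_of_comm hhs hx.2.symm)

/-- **Case A is impossible.** -/
theorem false : False := by
  by_cases hq : piCoreOf {q} H = ⊥
  · by_cases hr : piCoreOf {r} H = ⊥
    · exact A.swap34.swap23.false_one hq hr
    · by_cases hs : piCoreOf {s} H = ⊥
      · exact A.swap23.false_one hq hs
      · exact A.swap23.swap34.false_two hr hs hq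
  · by_cases hr : piCoreOf {r} H = ⊥
    · by_cases hs : piCoreOf {s} H = ⊥
      · exact A.false_one hr hs
      · exact A.swap34.false_two hq hs hr
    · by_cases hs : piCoreOf {s} H = ⊥
      · exact A.false_two hq hr hs
      · obtain ⟨x, hx, hxq⟩ := exists_mem_of_ne_bot A.qp (isPGroup_piCoreOf A.qp H) hq
        obtain ⟨y, hy, hyr⟩ := exists_mem_of_ne_bot A.rp (isPGroup_piCoreOf A.rp H) hr
        obtain ⟨z, hz, hzs⟩ := exists_mem_of_ne_bot A.sp (isPGroup_piCoreOf A.sp H) hs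
        have h1 : Commute x y :=
          ((mem_centralizer_iff.mp (core_le_centralizer_core A.qp A.rp A.F.qr H hx) y hy).symm :
            x * y = y * x)
        have h2 : Commute x z :=
          ((mem_centralizer_iff.mp (core_le_centralizer_core A.qp A.sp A.F.qs H hx) z hz).symm :
            x * z = z * x)
        have h3 : Commute y z :=
          ((mem_centralizer_iff.mp (core_le_centralizer_core A.rp A.sp A.F.rs H hy) z hz).symm :
            y * z = z * y)
        exact A.C.no3 A.F.mq A.F.mr A.F.ms A.F.qr A.F.rs A.F.qs hxq hyr hzs h1 h2 h3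

end ACtx

end Cfsg.Agent.H381.Criterion
end
end

-- part: H381/Cover
section
prune_inst 0x20100400008000000018000000000000000000020040000000400400000000400001000100000400000000000000002000cc00004000000000000000000400000002040010000008000000000000000000000000000000000000000000000000000000000
set_option linter.all false
open scoped Cfsg.Agent.FastGrp

-- part: H381/HHB
section
/-!
# Hall-Higman Theorem B in group form

`V` a `p`-group, `K` a `t`-group normalising `V`, `x` of order dividing `p ^ n` normalising `V` and `K`, such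
that no element of the coset `V x` has order larger than `p ^ n`: then `[K, x ^ (p ^ (n - 1))]` centralises
`V` (if no `p ^ n₀ - 1`, `n₀ ≤ n`, is a power of `t`).
-/

set_option autoImplicit false
set_option linter.unusedSectionVars false

namespace Cfsg.Agent.H381.HHB

open Module Subgroup
open scoped commutatorElement
open Cfsg.Agent.OddOrderLocal.Thm34 (bc bc_apply eq_of_bc elemRep elemRep_apply)

universe u v

theorem sub_one_pow_eq_geom {K : Type*} [Field K] {p : ℕ} [Fact p.Prime] [CharP K p] (n : ℕ) :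
    ((Polynomial.X : Polynomial K) - 1) ^ (p ^ n - 1) = ∑ i ∈ Finset.range (p ^ n), Polynomial.X ^ i := by
  have hne : (Polynomial.X : Polynomial K) - 1 ≠ 0 := by
    have := Polynomial.X_sub_C_ne_zero (1 : K)
    simpa only [_root_.ne_eq, _root_.map_one] using this
  apply mul_right_cancel₀ hne
  have hpos : 0 < p ^ n := pow_pos (Fact.out : p.Prime).pos n
  rw [geom_sum_mul, ← pow_succ, Nat.sub_add_cancel hpos, sub_pow_char_pow, one_pow]

theorem end_sub_one_pow {K : Type*} [Field K] {p : ℕ} [Fact p.Prime] [CharP K p] {V : Type*}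
    [AddCommGroup V] [Module K V] (X : Module.End K V) (n : ℕ) :
    (X - 1) ^ (p ^ n - 1) = ∑ i ∈ Finset.range (p ^ n), X ^ i := by
  have h := congrArg (Polynomial.aeval X) (sub_one_pow_eq_geom (K := K) (p := p) n)
  simpa only [_root_.map_pow, _root_.Polynomial.aeval_sub, _root_.Polynomial.aeval_X, _root_.map_one, _root_.map_sum] using h

/-- the automorphism induced on a quotient -/
theorem exists_quot_aut {K : Type*} [Group K] (N : Subgroup K) [N.Normal] (τ : MulAut K)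
    (h1 : ∀ k, k ∈ N ↔ τ k ∈ N) :
    ∃ σ : MulAut (K ⧸ N), ∀ (m : ℕ) (k : K), (σ ^ m) (QuotientGroup.mk k) = QuotientGroup.mk ((τ ^ m) k) := by
  have hτN : N.map (τ : K ≃* K).toMonoidHom = N := by
    ext k
    constructor
    · rintro ⟨k', hk', rfl⟩
      exact (h1 k').mp hk'
    · intro hk
      refine ⟨τ.symm k, ?_, ?_⟩
      · apply (h1 _).mpr
        rw [MulEquiv.apply_symm_apply]; exact hk
      · exact MulEquiv.apply_symm_apply τ k
  refine ⟨QuotientGroup.congr N N τ hτN, ?_⟩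
  intro m
  induction m with
  | zero => intro k; rfl
  | succ m ih =>
    intro k
    rw [pow_succ', pow_succ', MulAut.mul_apply, MulAut.mul_apply, ih]
    rfl

theorem exists_conj_aut {G : Type*} [Group G] (K : Subgroup G) (x : G)
    (hxK : x ∈ normalizer (K : Set G)) :
    ∃ τ : MulAut K, ∀ (m : ℕ) (k : K), (((τ ^ m) k : K) : G) = x ^ m * k * (x ^ m)⁻¹ := by
  refine ⟨K.normalizerMonoidHom ⟨x, hxK⟩, ?_⟩
  intro m k
  rw [← map_pow]
  rfl

/-- the injective homomorphism induced on the quotient by the kernel -/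
theorem exists_ker_lift {K : Type*} [Group K] {M : Type*} [Monoid M] (f : K →* M) :
    ∃ ρ : (K ⧸ f.ker) →* M, Function.Injective ρ ∧ ∀ k : K, ρ (QuotientGroup.mk' f.ker k) = f k := by
  refine ⟨QuotientGroup.lift f.ker f (fun g hg => MonoidHom.mem_ker.mp hg), ?_, fun k => rfl⟩
  rw [injective_iff_map_eq_one]
  intro a
  induction a using QuotientGroup.induction_on with
  | H k =>
    intro h
    exact (QuotientGroup.eq_one_iff k).mpr (MonoidHom.mem_ker.mpr h)

/-- version with an abstract quotient -/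
theorem alg_hhb_aux {F : Type*} [Field F] [IsAlgClosed F] {G : Type u} [Group G] [Finite G] {V : Type v}
    [AddCommGroup V] [Module F V] [FiniteDimensional F V] {p t : ℕ}
    [hp : Fact p.Prime] [CharP F p] [ht : Fact t.Prime] (htp : t ≠ p)
    (ρ₁ : G →* Module.End F V) (K : Subgroup G) {Q : Type*} [Group Q] [Finite Q] (hQ : IsPGroup t Q)
    (π : K →* Q) (hπ : Function.Surjective π) (ρ : Q →* Module.End F V)
    (hρ : Function.Injective ρ) (hρk : ∀ k : K, ρ (π k) = ρ₁ (k : G)) (x : G) (τ : MulAut K)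
    (hτp : ∀ (m : ℕ) (k : K), (((τ ^ m) k : K) : G) = x ^ m * k * (x ^ m)⁻¹) (σ : MulAut Q)
    (hσp : ∀ (m : ℕ) (k : K), (σ ^ m) (π k) = π ((τ ^ m) k)) (n : ℕ) (hn : 1 ≤ n)
    (hx : x ^ (p ^ n) = 1)
    (hex : ∀ n₀ m : ℕ, 1 ≤ n₀ → n₀ ≤ n → 1 ≤ m → p ^ n₀ - 1 ≠ t ^ m)
    (hN : ∑ j ∈ Finset.range (p ^ n), ρ₁ x ^ j = 0) :
    ∀ k ∈ K, ρ₁ (x ^ (p ^ (n - 1)) * k) = ρ₁ (k * x ^ (p ^ (n - 1))) := by
  have e1 : ∀ g, ρ₁ x * ρ g = ρ (σ g) * ρ₁ x := by
    intro g
    obtain ⟨k, rfl⟩ := hπ g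
    have h1 := hσp 1 k
    have h2 := hτp 1 k
    rw [pow_one, pow_one] at h1
    rw [pow_one, pow_one] at h2
    rw [h1, hρk, hρk, h2, ← map_mul, ← map_mul]
    congr 1
    group
  have e2 : σ ^ (p ^ n) = 1 := by
    apply MulEquiv.ext
    intro g
    obtain ⟨k, rfl⟩ := hπ g
    rw [hσp]
    have : (τ ^ p ^ n) k = k := by
      apply Subtype.ext
      rw [hτp, hx]; group
    rw [this]; rfl
  have e3 : (ρ₁ x) ^ (p ^ n) = 1 := by rw [← map_pow, hx, map_one]
  by_cases hy : ∃ g, (σ ^ (p ^ (n - 1))) g ≠ g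
  · exfalso
    have hz : (ρ₁ x - 1) ^ (p ^ n - 1) = 0 := by
      rw [end_sub_one_pow, hN]
    rcases PLocal.HHBCore.core htp hQ ρ hρ σ (ρ₁ x) e1 n hn e3 e2 hy _ hz with
      h1 | ⟨n₀, m, h1, h2, h3, h4, -⟩
    · have hpos : 0 < p ^ n := pow_pos hp.out.pos n
      omega
    · exact hex n₀ m h1 h2 h3 h4
  · push Not at hy
    intro k hk
    have h1 := hy (π ⟨k, hk⟩)
    rw [hσp] at h1
    have h2 := congrArg ρ h1
    rw [hρk, hρk, hτp] at h2
    calc ρ₁ (x ^ (p ^ (n - 1)) * k)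
        = ρ₁ (x ^ (p ^ (n - 1)) * k * (x ^ (p ^ (n - 1)))⁻¹) * ρ₁ (x ^ (p ^ (n - 1))) := by
          rw [← map_mul]; congr 1; group
      _ = ρ₁ k * ρ₁ (x ^ (p ^ (n - 1))) := by rw [h2]
      _ = _ := by rw [← map_mul]

theorem alg_hhb {F : Type*} [Field F] [IsAlgClosed F] {G : Type u} [Group G] [Finite G] {V : Type v}
    [AddCommGroup V] [Module F V] [FiniteDimensional F V] {p t : ℕ}
    [hp : Fact p.Prime] [CharP F p] [ht : Fact t.Prime] (htp : t ≠ p)
    (ρ₁ : G →* Module.End F V) (K : Subgroup G) (hK : IsPGroup t K) (x : G) (n : ℕ) (hn : 1 ≤ n)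
    (hx : x ^ (p ^ n) = 1) (hxK : x ∈ normalizer (K : Set G))
    (hex : ∀ n₀ m : ℕ, 1 ≤ n₀ → n₀ ≤ n → 1 ≤ m → p ^ n₀ - 1 ≠ t ^ m)
    (hN : ∑ j ∈ Finset.range (p ^ n), ρ₁ x ^ j = 0) :
    ∀ k ∈ K, ρ₁ (x ^ (p ^ (n - 1)) * k) = ρ₁ (k * x ^ (p ^ (n - 1))) := by
  obtain ⟨τ, hτ⟩ := exists_conj_aut K x hxK
  have hinv : ρ₁ x * ρ₁ x⁻¹ = 1 := by rw [← map_mul, mul_inv_cancel, map_one]
  have hinv' : ρ₁ x⁻¹ * ρ₁ x = 1 := by rw [← map_mul, inv_mul_cancel, map_one]
  obtain ⟨σ, hσ⟩ := exists_quot_aut (ρ₁.comp K.subtype).ker τ (by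
    intro k
    rw [MonoidHom.mem_ker, MonoidHom.mem_ker]
    have h1 := hτ 1 k
    rw [pow_one, pow_one] at h1
    show ρ₁ (k : G) = 1 ↔ ρ₁ ((τ k : K) : G) = 1
    rw [h1, map_mul, map_mul]
    constructor
    · intro h; rw [h, mul_one, hinv]
    · intro h
      calc ρ₁ k = (ρ₁ x⁻¹ * ρ₁ x) * ρ₁ k * (ρ₁ x⁻¹ * ρ₁ x) := by rw [hinv', one_mul, mul_one]
        _ = ρ₁ x⁻¹ * (ρ₁ x * ρ₁ k * ρ₁ x⁻¹) * ρ₁ x := by simp only [mul_assoc]
        _ = 1 := by rw [h, mul_one, hinv'])
  obtain ⟨ρ, hρ, hρk⟩ := exists_ker_lift (ρ₁.comp K.subtype)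
  exact alg_hhb_aux htp ρ₁ K (hK.to_quotient _) (QuotientGroup.mk' (ρ₁.comp K.subtype).ker)
    (QuotientGroup.mk'_surjective _) ρ hρ hρk x τ hτ σ hσ n hn hx hex hN

theorem rep_hhb {F : Type*} [Field F] {G : Type u} [Group G] [Finite G] {V : Type v}
    [AddCommGroup V] [Module F V] [FiniteDimensional F V] {p t : ℕ}
    [hp : Fact p.Prime] [CharP F p] [ht : Fact t.Prime] (htp : t ≠ p)
    (ρ₀ : Representation F G V) (K : Subgroup G) (hK : IsPGroup t K) (x : G) (n : ℕ) (hn : 1 ≤ n)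
    (hx : x ^ (p ^ n) = 1) (hxK : x ∈ normalizer (K : Set G))
    (hex : ∀ n₀ m : ℕ, 1 ≤ n₀ → n₀ ≤ n → 1 ≤ m → p ^ n₀ - 1 ≠ t ^ m)
    (hN : ∑ j ∈ Finset.range (p ^ n), ρ₀ x ^ j = 0) :
    ∀ k ∈ K, ρ₀ (x ^ (p ^ (n - 1)) * k) = ρ₀ (k * x ^ (p ^ (n - 1))) := by
  have hKp : CharP (AlgebraicClosure F) p :=
    charP_of_injective_algebraMap (algebraMap F (AlgebraicClosure F)).injective p
  intro k hk
  have h := alg_hhb htp (bc (AlgebraicClosure F) ρ₀) K hK x n hn hx hxK hex (by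
      have h2 := congrArg (Module.End.baseChangeHom F (AlgebraicClosure F) V) hN
      rw [map_sum, map_zero] at h2
      simp only [map_pow] at h2
      exact h2) k hk
  exact eq_of_bc h

theorem elem_hhb {G : Type u} [Group G] [Finite G] {A : Type v} [CommGroup A] [Finite A] {p t : ℕ}
    [hp : Fact p.Prime] [ht : Fact t.Prime] (htp : t ≠ p) (hA : ∀ a : A, a ^ p = 1)
    (φ : G →* MulAut A) (K : Subgroup G) (hK : IsPGroup t K) (x : G) (n : ℕ) (hn : 1 ≤ n)
    (hx : x ^ (p ^ n) = 1) (hxK : x ∈ normalizer (K : Set G))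
    (hex : ∀ n₀ m : ℕ, 1 ≤ n₀ → n₀ ≤ n → 1 ≤ m → p ^ n₀ - 1 ≠ t ^ m)
    (hN : ∀ v : A, ∏ j ∈ Finset.range (p ^ n), φ (x ^ j) v = 1) :
    ∀ k ∈ K, ∀ a, φ (x ^ (p ^ (n - 1)) * k) a = φ (k * x ^ (p ^ (n - 1))) a := by
  let _inst : Module (ZMod p) (Additive A) := AddCommGroup.zmodModule (by
    intro a
    exact hA a.toMul)
  have hfinA : Finite (Additive A) := inferInstanceAs (Finite A)
  have hfd : FiniteDimensional (ZMod p) (Additive A) := Module.Finite.of_finite
  intro k hk a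
  have h1 := @rep_hhb (ZMod p) _ G _ _ (Additive A) _ _inst hfd p t hp _ ht htp (elemRep p φ) K hK x n
    hn hx hxK hex (by
      apply LinearMap.ext
      intro v
      rw [LinearMap.sum_apply, LinearMap.zero_apply]
      have h1 : ∀ i, (elemRep p φ x ^ i) v = Additive.ofMul (φ (x ^ i) v.toMul) := by
        intro i
        rw [← map_pow]
        rfl
      simp only [h1]
      rw [← ofMul_prod, hN]
      rfl) k hk
  exact LinearMap.congr_fun h1 (Additive.ofMul a)

open Cfsg.Agent.H381.Tools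
open Cfsg.Agent.H381.Criterion (exists_central commutator_zpowers_le)
open Cfsg.Agent.Lib.CoprimeCommutator (le_centralizer_of_commutator_le)

theorem conj_prod {G : Type u} [Group G] (W : Subgroup G) [hW : W.Normal]
    (hWc : ∀ a b : W, a * b = b * a) (x : G) (v : W) (m : ℕ) :
    letI : CommGroup W := { (inferInstance : Group W) with mul_comm := hWc }
    ((v : G) * x) ^ m =
      ((∏ j ∈ Finset.range m, (MulAut.conjNormal (x ^ j) : MulAut W) v : W) : G) * x ^ m := by
  letI : CommGroup W := { (inferInstance : Group W) with mul_comm := hWc }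
  induction m with
  | zero => simp only [_root_.pow_zero, _root_.Finset.range_zero, _root_.map_pow, _root_.Finset.prod_empty, _root_.OneMemClass.coe_one, _root_.mul_one]
  | succ m ih =>
    rw [pow_succ, ih, Finset.prod_range_succ, Subgroup.coe_mul, MulAut.conjNormal_apply]
    group

theorem group_hhb {p t : ℕ} [hp : Fact p.Prime] [ht : Fact t.Prime] (htp : t ≠ p) {n : ℕ}
    (hn : 1 ≤ n) (hex : ∀ n₀ m : ℕ, 1 ≤ n₀ → n₀ ≤ n → 1 ≤ m → p ^ n₀ - 1 ≠ t ^ m) :
    ∀ c : ℕ, ∀ (G : Type u) [Group G] [Finite G] (V K : Subgroup G) [V.Normal] (x : G),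
    Nat.card V = c → IsPGroup p V → IsPGroup t K → x ^ (p ^ n) = 1 → x ∈ normalizer (K : Set G) →
    (∀ v ∈ V, (v * x) ^ (p ^ n) = 1) →
    ⁅K, Subgroup.zpowers (x ^ (p ^ (n - 1)))⁆ ≤ Subgroup.centralizer (V : Set G) := by
  intro c
  induction c using Nat.strong_induction_on with
  | _ c ih =>
  intro G _ _ V K hVn x hc hV hK hx hxK hord
  classical
  by_cases hVb : V = ⊥
  · rw [hVb]
    intro g _
    rw [Subgroup.mem_centralizer_iff]
    intro v hv
    rw [SetLike.mem_coe, Subgroup.mem_bot] at hv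
    rw [hv, one_mul, mul_one]
  -- the subgroup `W = Ω₁(Z(V))`
  let W : Subgroup G :=
    { carrier := {g | g ∈ V ⊓ Subgroup.centralizer (V : Set G) ∧ g ^ p = 1}
      one_mem' := ⟨Subgroup.one_mem _, one_pow _⟩
      mul_mem' := by
        rintro a b ⟨ha, hap⟩ ⟨hb, hbp⟩
        refine ⟨Subgroup.mul_mem _ ha hb, ?_⟩
        have hc : Commute a b := mem_centralizer_iff.mp (mem_inf.mp hb).2 a (mem_inf.mp ha).1
        rw [hc.mul_pow, hap, hbp, one_mul]
      inv_mem' := by
        rintro a ⟨ha, hap⟩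
        exact ⟨Subgroup.inv_mem _ ha, by rw [inv_pow, hap, inv_one]⟩ }
  have hWmem : ∀ g, g ∈ W ↔ g ∈ V ⊓ Subgroup.centralizer (V : Set G) ∧ g ^ p = 1 := fun g => Iff.rfl
  have hWn : W.Normal := by
    constructor
    intro a ha g
    rw [hWmem] at ha ⊢
    obtain ⟨h12, h3⟩ := ha
    obtain ⟨h1, h2⟩ := mem_inf.mp h12
    refine ⟨mem_inf.mpr ⟨hVn.conj_mem a h1 g, ?_⟩, by rw [conj_pow, h3, mul_one, mul_inv_cancel]⟩
    rw [mem_centralizer_iff] at h2 ⊢
    intro v hv
    have h4 : g⁻¹ * v * g ∈ V := by simpa using hVn.conj_mem v hv g⁻¹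
    have h5 := h2 _ h4
    calc v * (g * a * g⁻¹) = g * ((g⁻¹ * v * g) * a) * g⁻¹ := by group
      _ = g * (a * (g⁻¹ * v * g)) * g⁻¹ := by rw [h5]
      _ = g * a * g⁻¹ * v := by group
  have hWV : W ≤ V := fun g hg => (mem_inf.mp hg.1).1
  have hWc : ∀ a b : W, a * b = b * a := by
    rintro ⟨a, ha, hap⟩ ⟨b, hb, hbp⟩
    apply Subtype.ext
    exact mem_centralizer_iff.mp (mem_inf.mp hb).2 a (mem_inf.mp ha).1
  have hW : W ≠ ⊥ := by
    obtain ⟨z, hz, hzp, hzc⟩ := exists_central hp.out hV hVb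
    intro h
    have h1 : z ∈ W := by
      refine ⟨mem_inf.mpr ⟨hz, ?_⟩, by rw [← hzp]; exact pow_orderOf_eq_one z⟩
      rw [mem_centralizer_iff]
      intro y hy
      exact (hzc y hy).symm
    rw [h, Subgroup.mem_bot] at h1
    rw [h1, orderOf_one] at hzp
    exact hp.out.one_lt.ne hzp
  have hgrp : ⁅K, Subgroup.zpowers (x ^ (p ^ (n - 1)))⁆ ≤ Subgroup.centralizer (W : Set G) := by
    let _inst : CommGroup W := { (inferInstance : Group W) with mul_comm := hWc }
    set y := x ^ (p ^ (n - 1)) with hy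
    have h1 := elem_hhb (G := G) (A := W) htp (fun a => Subtype.ext a.2.2)
      (MulAut.conjNormal : G →* MulAut W) K hK x n hn hx hxK hex (by
        intro v
        have h2 := hord v (hWV v.2)
        rw [conj_prod W hWc x v, hx, mul_one] at h2
        exact Subtype.ext h2)
    have : (Subgroup.centralizer (W : Set G)).Normal := Subgroup.normal_centralizer
    apply Cfsg.Agent.OddOrderLocal.Thm34.commutator_zpowers_le
    intro k hk
    rw [Subgroup.mem_centralizer_iff]
    intro a ha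
    have hxW : y⁻¹ * a * y ∈ W := by simpa using hWn.conj_mem a ha y⁻¹
    have hxW2 : k⁻¹ * (y⁻¹ * a * y) * k ∈ W := by simpa only [_root_.inv_inv] using hWn.conj_mem _ hxW k⁻¹
    have h2 := h1 k hk ⟨_, hxW2⟩
    have h3 : (y * k) * (k⁻¹ * (y⁻¹ * a * y) * k) * (y * k)⁻¹ =
      (k * y) * (k⁻¹ * (y⁻¹ * a * y) * k) * (k * y)⁻¹ := congrArg Subtype.val h2
    have h4 : (y * k) * (k⁻¹ * (y⁻¹ * a * y) * k) * (y * k)⁻¹ = a := by group
    rw [h4] at h3
    have h5 : (k * y) * (k⁻¹ * (y⁻¹ * a * y) * k) * (k * y)⁻¹ = ⁅k, y⁆ * a * ⁅k, y⁆⁻¹ := by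
      rw [commutatorElement_def]; group
    rw [h5] at h3
    rw [eq_mul_inv_iff_mul_eq] at h3
    exact h3
  -- the quotient by `W`
  have hVc : Nat.card (V.map (QuotientGroup.mk' W)) ∣ Nat.card V := Subgroup.card_map_dvd _ _
  have hlt : Nat.card (V.map (QuotientGroup.mk' W)) < c := by
    rw [← hc]
    refine lt_of_le_of_ne (Nat.le_of_dvd Nat.card_pos hVc) ?_
    intro h
    have h1 := Subgroup.card_mul_index (V.map (QuotientGroup.mk' W))
    have h2 : (V.map (QuotientGroup.mk' W)).index = V.index := by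
      rw [Subgroup.index_map_eq]
      · exact QuotientGroup.mk'_surjective _
      · rw [QuotientGroup.ker_mk']; exact hWV
    rw [h2, h, V.card_mul_index, Subgroup.card_eq_card_quotient_mul_card_subgroup W] at h1
    have h3 : Nat.card W = 1 := by
      have : 0 < Nat.card (G ⧸ W) := Nat.card_pos
      nlinarith only [h1, this, Nat.card_pos (α := W)]
    exact hW (Subgroup.card_eq_one.1 h3)
  have hVn' : (V.map (QuotientGroup.mk' W)).Normal := hVn.map _ (QuotientGroup.mk'_surjective _)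
  have h := ih _ hlt (G ⧸ W) (V.map (QuotientGroup.mk' W)) (K.map (QuotientGroup.mk' W))
    (QuotientGroup.mk' W x) rfl (hV.map _) (hK.map _)
    (by rw [← map_pow, hx, map_one])
    (by
      apply Cfsg.Agent.OddOrderLocal.Thm34.mem_normalizer_of_conj (pow_pos hp.out.pos n)
        (by rw [← map_pow, hx, map_one])
      rintro _ ⟨k, hk, rfl⟩
      exact ⟨_, (mem_normalizer_iff.mp hxK k).mp hk, by rw [map_mul, map_mul, map_inv]⟩)
    (by
      rintro _ ⟨v, hv, rfl⟩
      rw [← map_mul, ← map_pow, hord v hv, map_one])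
  have hyK : x ^ (p ^ (n - 1)) ∈ normalizer (K : Set G) := pow_mem hxK _
  have hHK : ⁅K, Subgroup.zpowers (x ^ (p ^ (n - 1)))⁆ ≤ K := commutator_zpowers_le hyK
  apply le_centralizer_of_commutator_le _ V W
  · rw [Subgroup.normalizer_eq_top]; exact le_top
  · exact coprime_pow_card ht.out (hK.to_le hHK) (not_dvd_card hp.out ht.out htp hV)
  · rw [Subgroup.commutator_le]
    intro v hv g hg
    have h1 : QuotientGroup.mk' W g ∈ Subgroup.centralizer
        ((V.map (QuotientGroup.mk' W) : Subgroup (G ⧸ W)) : Set (G ⧸ W)) := by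
      apply h
      have h2 : (⁅K, Subgroup.zpowers (x ^ (p ^ (n - 1)))⁆).map (QuotientGroup.mk' W) =
          ⁅K.map (QuotientGroup.mk' W), Subgroup.zpowers (QuotientGroup.mk' W x ^ (p ^ (n - 1)))⁆ := by
        rw [Subgroup.map_commutator, MonoidHom.map_zpowers, map_pow]
      rw [← h2]
      exact ⟨g, hg, rfl⟩
    have h2 : Commute (QuotientGroup.mk' W v) (QuotientGroup.mk' W g) :=
      Subgroup.mem_centralizer_iff.1 h1 _ ⟨v, hv, rfl⟩
    rw [← commutatorElement_eq_one_iff_commute, ← map_commutatorElement] at h2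
    exact (QuotientGroup.eq_one_iff _).1 h2
  · exact hgrp

/-- **Hall-Higman B, group form.** -/
theorem hhb {G : Type u} [Group G] [Finite G] {p t : ℕ} (hp : p.Prime) (ht : t.Prime) (htp : t ≠ p)
    {n : ℕ} (hn : 1 ≤ n) (hex : ∀ n₀ m : ℕ, 1 ≤ n₀ → n₀ ≤ n → 1 ≤ m → p ^ n₀ - 1 ≠ t ^ m)
    {V K : Subgroup G} {x : G} (hV : IsPGroup p V) (hK : IsPGroup t K) (hx : x ^ (p ^ n) = 1)
    (hxK : x ∈ normalizer (K : Set G)) (hxV : x ∈ normalizer (V : Set G))
    (hKV : K ≤ normalizer (V : Set G)) (hord : ∀ v ∈ V, (v * x) ^ (p ^ n) = 1) :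
    ⁅K, Subgroup.zpowers (x ^ (p ^ (n - 1)))⁆ ≤ Subgroup.centralizer (V : Set G) := by
  have hpf : Fact p.Prime := ⟨hp⟩
  have htf : Fact t.Prime := ⟨ht⟩
  set M : Subgroup G := Subgroup.normalizer (V : Set G) with hM
  have hVM : V ≤ M := Subgroup.le_normalizer
  have hVn : (V.subgroupOf M).Normal := Subgroup.normal_in_normalizer
  have h := group_hhb htp hn hex _ M (V.subgroupOf M) (K.subgroupOf M) ⟨x, hxV⟩ rfl
    (hV.of_equiv (Subgroup.subgroupOfEquivOfLe hVM).symm)
    (hK.of_equiv (Subgroup.subgroupOfEquivOfLe hKV).symm) (Subtype.ext hx)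
    (by
      rw [mem_normalizer_iff]
      intro k
      rw [mem_subgroupOf, mem_subgroupOf]
      exact mem_normalizer_iff.mp hxK k)
    (by
      intro v hv
      exact Subtype.ext (hord v hv))
  rw [Subgroup.commutator_le]
  intro k hk y hy
  obtain ⟨j, rfl⟩ := Subgroup.mem_zpowers_iff.1 hy
  have hxM : x ^ (p ^ (n - 1)) ∈ M := pow_mem hxV _
  have h1 := h (Subgroup.commutator_mem_commutator (g₁ := ⟨k, hKV hk⟩)
    (g₂ := ⟨(x ^ (p ^ (n - 1))) ^ j, zpow_mem hxM j⟩)
    (Subgroup.mem_subgroupOf.2 hk) (Subgroup.mem_zpowers_iff.2 ⟨j, Subtype.ext (by simp)⟩))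
  rw [Subgroup.mem_centralizer_iff] at h1 ⊢
  intro v hv
  have h2 := h1 ⟨v, hVM hv⟩ (Subgroup.mem_subgroupOf.2 hv)
  exact congrArg Subtype.val h2

end Cfsg.Agent.H381.HHB
end

-- part: H381/Cover
section
/-!
# Subgroups covering a simple section modulo a solvable kernel

`f : E →* T` surjective with solvable kernel, `ι : L →* T` injective with normal range, `L` simple.
`Cov f ι M`: the subgroup `M` of `E` covers `L`.
-/

set_option autoImplicit false
set_option linter.unusedSectionVars false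

namespace Cfsg.Agent.H381.Cover

open Subgroup
open scoped commutatorElement
open Cfsg (piCoreOf fittingOf IsPiHallOf)
open Cfsg.Agent.H381.Tools
open Cfsg.Agent.H381.Criterion (commutator_zpowers_le normalizer_le_normalizer_centralizer)

universe u v w

variable {E : Type u} [Group E] [Finite E] {T : Type v} [Group T] {L : Type w} [Group L]

/-- `M` covers `L` -/
def Cov (f : E →* T) (ι : L →* T) (M : Subgroup E) : Prop := ι.range ≤ M.map f

theorem Cov.mono {f : E →* T} {ι : L →* T} {M N : Subgroup E} (h : Cov f ι M) (hMN : M ≤ N) :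
    Cov f ι N := h.trans (Subgroup.map_mono hMN)

theorem Cov.exists_lift {f : E →* T} {ι : L →* T} {M : Subgroup E} (h : Cov f ι M) (x : L) :
    ∃ g ∈ M, f g = ι x := h ⟨x, rfl⟩

/-- a power of `g` with the same image whose order is a power of `t` -/
theorem exists_pow_lift (f : E →* T) {t : ℕ} (ht : t.Prime) (g : E) {k : ℕ}
    (hk : orderOf (f g) ∣ t ^ k) : ∃ j m : ℕ, f (g ^ j) = f g ∧ orderOf (g ^ j) = t ^ m := by
  have hg0 : orderOf g ≠ 0 := (orderOf_pos g).ne'
  obtain ⟨a, b, hb, hab⟩ := Nat.exists_eq_pow_mul_and_not_dvd hg0 t ht.ne_one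
  have hbt : (t ^ k).Coprime b := Nat.Coprime.pow_left _ ((ht.coprime_iff_not_dvd).mpr hb)
  have hb0 : b ≠ 0 := by rintro rfl; exact hb (dvd_zero t)
  obtain ⟨j, hj1, hj2⟩ := Nat.chineseRemainder hbt 1 0
  refine ⟨j, ?_⟩
  have h1 : f (g ^ j) = f g := by
    rw [map_pow]
    have h2 : j ≡ 1 [MOD orderOf (f g)] := hj1.of_dvd hk
    conv_rhs => rw [← pow_one (f g)]
    exact pow_eq_pow_iff_modEq.mpr h2
  have h3 : b ∣ j := (Nat.modEq_zero_iff_dvd).mp hj2
  have h4 : (g ^ j) ^ (t ^ a) = 1 := by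
    obtain ⟨c, rfl⟩ := h3
    rw [← pow_mul]
    have : b * c * t ^ a = orderOf g * c := by rw [hab]; ring
    rw [this, pow_mul, pow_orderOf_eq_one, one_pow]
  obtain ⟨m, -, hm⟩ := (Nat.dvd_prime_pow ht).mp (orderOf_dvd_of_pow_eq_one h4)
  exact ⟨m, h1, hm⟩

theorem Cov.lift_elem {f : E →* T} {ι : L →* T} {M : Subgroup E} (h : Cov f ι M) {t : ℕ}
    (ht : t.Prime) {x : L} {k : ℕ} (hx : orderOf x ∣ t ^ k) :
    ∃ g ∈ M, f g = ι x ∧ ∃ m, orderOf g = t ^ m := by
  obtain ⟨g, hg, hgx⟩ := h.exists_lift x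
  obtain ⟨j, m, h1, h2⟩ := exists_pow_lift f ht g (k := k) (by
    rw [hgx]; exact (orderOf_map_dvd ι x).trans hx)
  exact ⟨g ^ j, pow_mem hg j, h1.trans hgx, m, h2⟩

/-- a prime dividing `|L|` divides the order of every subgroup covering `L` -/
theorem Cov.prime_dvd {f : E →* T} {ι : L →* T} (hι : Function.Injective ι) {M : Subgroup E}
    (h : Cov f ι M) {p : ℕ} (hp : p ∣ Nat.card L) : p ∣ Nat.card M := by
  have h1 : Nat.card L ∣ Nat.card (M.map f) := by
    rw [Nat.card_congr (MonoidHom.ofInjective hι).toEquiv]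
    exact Subgroup.card_dvd_of_le h
  exact hp.trans (h1.trans (Subgroup.card_map_dvd _ _))

/-- solvability of preimages -/
theorem isSolvable_of_map {f : E →* T} (hS : Group.IsSolvable f.ker) {D : Subgroup E}
    (h : Group.IsSolvable (D.map f)) : Group.IsSolvable D := by
  have h3 : ∀ x : (f.subgroupMap D).ker, ((x : D) : E) ∈ f.ker := by
    rintro ⟨x, hx⟩
    rw [MonoidHom.mem_ker] at hx ⊢
    exact congrArg Subtype.val hx
  let j : (f.subgroupMap D).ker →* f.ker :=
    { toFun := fun x => ⟨((x : D) : E), h3 x⟩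
      map_one' := rfl
      map_mul' := fun a b => rfl }
  have h2 : Group.IsSolvable (f.subgroupMap D).ker :=
    Group.isSolvable_of_isSolvable_injective (f := j) (fun a b hab => by
      apply Subtype.ext; apply Subtype.ext
      exact congrArg (fun z : f.ker => (z : E)) hab)
  exact Group.isSolvable_of_ker_le_range (f.subgroupMap D).ker.subtype (f.subgroupMap D)
    (by rw [Subgroup.range_subtype])

theorem conj_mem_map {A : Subgroup L} {ι : L →* T} {w : L} (hw : w ∈ normalizer (A : Set L)) {z : T}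
    (hz : z ∈ A.map ι) : ι w * z * (ι w)⁻¹ ∈ A.map ι := by
  obtain ⟨a, ha, rfl⟩ := hz
  exact ⟨w * a * w⁻¹, (mem_normalizer_iff.mp hw a).mp ha, by rw [map_mul, map_mul, map_inv]⟩

/-- **Lifting a `t`-group and an `s`-element normalising it.** -/
theorem Cov.lift_pair {f : E →* T} {ι : L →* T} {M : Subgroup E} (hS : Group.IsSolvable f.ker)
    (h : Cov f ι M) {t s : ℕ} (ht : t.Prime) (hs : s.Prime) {A : Subgroup L} {w : L}
    (hA : IsPGroup t A) (hw : w ∈ normalizer (A : Set L)) {k : ℕ} (hwk : orderOf w ∣ s ^ k) :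
    ∃ Y ≤ M, ∃ g ∈ M, IsPGroup t Y ∧ Y.map f = A.map ι ∧ g ∈ normalizer (Y : Set E) ∧
      f g = ι w ∧ ∃ m, orderOf g = s ^ m := by
  have htf : Fact t.Prime := ⟨ht⟩
  set D : Subgroup E := M ⊓ (A.map ι).comap f with hD
  have hDM : D ≤ M := inf_le_left
  have hDf : D.map f = A.map ι := by
    apply le_antisymm
    · rintro _ ⟨d, hd, rfl⟩
      exact (mem_inf.mp hd).2
    · rintro _ ⟨a, ha, rfl⟩
      obtain ⟨g, hg, hga⟩ := h.exists_lift a
      exact ⟨g, mem_inf.mpr ⟨hg, by rw [mem_comap, hga]; exact ⟨a, ha, rfl⟩⟩, hga⟩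
  have hDt : IsPGroup t (D.map f) := by rw [hDf]; exact hA.map ι
  have hfin : Finite (D.map f) := Finite.of_surjective _ (f.subgroupMap_surjective D)
  have hDs : Group.IsSolvable D := by
    apply isSolvable_of_map hS
    have := hDt.isNilpotent
    infer_instance
  obtain ⟨Y, hY⟩ := Cfsg.Agent.OddOrderLocal.HallPi.exists_isPiHallOf hDs ({t} : Set ℕ)
  have hYt : IsPGroup t Y := (Cfsg.Agent.OddOrderLocal.PiCoreOf.isPi_singleton_iff ht Y).mp hY.2.1
  have hYf : Y.map f = A.map ι := by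
    have h1 := Subgroup.index_map_dvd (Y.subgroupOf D) (f.subgroupMap_surjective D)
    obtain ⟨n, hn⟩ := hDt.index ((Y.subgroupOf D).map (f.subgroupMap D))
    have hn0 : n = 0 := by
      by_contra hne
      have h2 : t ∣ Y.relIndex D := by
        refine dvd_trans ?_ h1
        rw [hn]
        exact dvd_pow_self t hne
      exact hY.2.2 t ht (Set.mem_singleton t) h2
    rw [hn0, pow_zero, Subgroup.index_eq_one] at hn
    rw [← hDf]
    apply le_antisymm (Subgroup.map_mono hY.1)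
    rintro _ ⟨d, hd, rfl⟩
    have h3 : f.subgroupMap D ⟨d, hd⟩ ∈ (Y.subgroupOf D).map (f.subgroupMap D) := by
      rw [hn]; exact mem_top _
    obtain ⟨⟨y, hyD⟩, hy, hyd⟩ := h3
    exact ⟨y, hy, congrArg Subtype.val hyd⟩
  obtain ⟨g₀, hg₀M, hg₀⟩ := h.exists_lift w
  have hg₀D : g₀ ∈ normalizer (D : Set E) := by
    apply Cfsg.Agent.OddOrderLocal.Thm34.mem_normalizer_of_conj (orderOf_pos g₀)
      (pow_orderOf_eq_one g₀)
    intro d hd
    obtain ⟨h1, h2⟩ := mem_inf.mp hd
    refine mem_inf.mpr ⟨mul_mem (mul_mem hg₀M h1) (inv_mem hg₀M), ?_⟩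
    rw [mem_comap, map_mul, map_mul, map_inv, hg₀]
    exact conj_mem_map hw h2
  obtain ⟨n, hn, b, hb, hnb⟩ := Cfsg.Agent.OddOrderLocal.HallPi.frattini
    (M := M ⊓ normalizer (D : Set E)) hDs (le_inf hDM le_normalizer) inf_le_right hY g₀
    (mem_inf.mpr ⟨hg₀M, hg₀D⟩)
  obtain ⟨hb1, hbY⟩ := mem_inf.mp hb
  have hfn : f n ∈ Y.map f := by rw [hYf, ← hDf]; exact ⟨n, hn, rfl⟩
  obtain ⟨y, hy, hyn⟩ := hfn
  have hyb : f (y * b) = ι w := by rw [map_mul, hyn, ← map_mul, ← hnb, hg₀]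
  obtain ⟨j, m, h1, h2⟩ := exists_pow_lift f hs (y * b) (k := k) (by
    rw [hyb]; exact (orderOf_map_dvd ι w).trans hwk)
  refine ⟨Y, hY.1.trans hDM, (y * b) ^ j, ?_, hYt, hYf, ?_, h1.trans hyb, m, h2⟩
  · exact pow_mem (mul_mem (hDM (hY.1 hy)) (mem_inf.mp hb1).1) j
  · exact pow_mem (mul_mem (le_normalizer hy) hbY) j

/-- **Frattini argument**: the normaliser of a Hall subgroup of a normal solvable subgroup in the
kernel covers `L`. -/
theorem Cov.frattini {f : E →* T} {ι : L →* T} {M N : Subgroup E} (h : Cov f ι M)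
    (hN : Group.IsSolvable N) (hNM : N ≤ M) (hnorm : M ≤ normalizer (N : Set E)) (hNf : N ≤ f.ker)
    {π : Set ℕ} {R : Subgroup E} (hR : IsPiHallOf π R N) :
    Cov f ι (M ⊓ normalizer (R : Set E)) := by
  intro z hz
  obtain ⟨m, hm, rfl⟩ := h hz
  obtain ⟨n, hn, k, hk, hnk⟩ := Cfsg.Agent.OddOrderLocal.HallPi.frattini hN hNM hnorm hR m hm
  refine ⟨k, hk, ?_⟩
  rw [hnk, map_mul, MonoidHom.mem_ker.mp (hNf hn), one_mul]

/-- **Dichotomy**: if `N` is normalised by `M` which covers `L`, and the image of `N` contains a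
nontrivial element of `L`, then `N` covers `L`. -/
theorem Cov.of_ne_one {f : E →* T} {ι : L →* T} [IsSimpleGroup L]
    {M N : Subgroup E} (h : Cov f ι M) (hMN : M ≤ normalizer (N : Set E)) {g : E} (hg : g ∈ N)
    {x : L} (hx : x ≠ 1) (hgx : f g = ι x) : Cov f ι N := by
  let J : Subgroup L := (N.map f).comap ι
  have hJ : J.Normal := by
    constructor
    rintro y ⟨n, hn, hny⟩ z
    obtain ⟨m, hm, hmz⟩ := h.exists_lift z
    refine ⟨m * n * m⁻¹, (mem_normalizer_iff.mp (hMN hm) n).mp hn, ?_⟩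
    rw [map_mul, map_mul, map_inv, hmz, hny, map_mul, map_mul, map_inv]
  have hJx : x ∈ J := ⟨g, hg, hgx⟩
  have hJtop : J = ⊤ := by
    rcases hJ.eq_bot_or_eq_top with h1 | h1
    · rw [h1, mem_bot] at hJx; exact absurd hJx hx
    · exact h1
  rintro _ ⟨y, rfl⟩
  have : y ∈ J := by rw [hJtop]; exact mem_top y
  exact this

theorem normalizer_inf_centralizer {M P : Subgroup E} (hMP : M ≤ normalizer (P : Set E)) :
    M ≤ normalizer ((M ⊓ centralizer (P : Set E) : Subgroup E) : Set E) :=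
  Cfsg.Agent.H381.Criterion.le_normalizer_inf le_normalizer
    (hMP.trans (normalizer_le_normalizer_centralizer P))

/-- covering by a centraliser from a noncommuting pair -/
theorem Cov.centralizer_of_commutator {f : E →* T} {ι : L →* T} [IsSimpleGroup L]
    {M P Y : Subgroup E} (h : Cov f ι M) (hMP : M ≤ normalizer (P : Set E))
    (hYM : Y ≤ M) {A : Subgroup L} (hYA : Y.map f = A.map ι) {g : E} (hg : g ∈ M) {w a : L}
    (hgw : f g = ι w) (ha : a ∈ A) (hwa : ¬ Commute w a)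
    (hc : ⁅Y, zpowers g⁆ ≤ centralizer (P : Set E)) : Cov f ι (M ⊓ centralizer (P : Set E)) := by
  have h1 : ι a ∈ Y.map f := by rw [hYA]; exact ⟨a, ha, rfl⟩
  obtain ⟨y, hy, hya⟩ := h1
  have h2 : ⁅y, g⁆ ∈ M ⊓ centralizer (P : Set E) := by
    refine mem_inf.mpr ⟨?_, hc (commutator_mem_commutator hy (mem_zpowers g))⟩
    rw [commutatorElement_def]
    exact mul_mem (mul_mem (mul_mem (hYM hy) hg) (inv_mem (hYM hy))) (inv_mem hg)
  refine h.of_ne_one (normalizer_inf_centralizer hMP) h2 (x := ⁅a, w⁆) ?_ ?_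
  · intro h3
    rw [commutatorElement_eq_one_iff_commute] at h3
    exact hwa h3.symm
  · rw [map_commutatorElement, map_commutatorElement, hya, hgw]

end Cfsg.Agent.H381.Cover
end
end

-- part: H389/Basic
section
set_option linter.all false
open scoped Cfsg.Agent.FastGrp

-- part: H389/Om
section
/-!
# Groups whose element orders are element orders of `J₁ × J₁` (helper389)

`om` : the element orders of `J₁ × J₁`; `Cl G` : all element orders of `G` lie in `om`. The property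
passes to subgroups and quotients.
-/

set_option autoImplicit false

namespace Cfsg.Agent.H389.JSq

open Subgroup

/-- the element orders of `J₁ × J₁` -/
def om : Finset ℕ :=
  {1, 2, 3, 5, 6, 7, 10, 11, 14, 15, 19, 21, 22, 30, 33, 35, 38, 42, 55, 57, 66, 70, 77, 95, 105,
    110, 114, 133, 165, 190, 209, 285}

theorem om_dvd : ∀ n ∈ om, ∀ d ∈ Finset.range 286, d ∣ n → d ∈ om := by decide +kernel

theorem om_le : ∀ n ∈ om, n ≤ 285 := by decide +kernel

theorem om_pos : ∀ n ∈ om, 0 < n := by decide +kernel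

theorem om_closed {n d : ℕ} (hn : n ∈ om) (hd : d ∣ n) : d ∈ om := by
  refine om_dvd n hn d ?_ hd
  rw [Finset.mem_range]
  have h1 := Nat.le_of_dvd (om_pos n hn) hd
  have h2 := om_le n hn
  omega

/-- all element orders are orders of elements of `J₁ × J₁` -/
def Cl (G : Type*) [Group G] : Prop := ∀ g : G, orderOf g ∈ om

theorem Cl.subgroup {G : Type*} [Group G] (h : Cl G) (H : Subgroup G) : Cl H := by
  intro g
  rw [← Subgroup.orderOf_coe]
  exact h g

theorem Cl.of_surjective {G H : Type*} [Group G] [Group H] (h : Cl G) (f : G →* H)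
    (hf : Function.Surjective f) : Cl H := by
  intro g
  obtain ⟨x, rfl⟩ := hf g
  exact om_closed (h x) (orderOf_map_dvd f x)

theorem Cl.quotient {G : Type*} [Group G] (h : Cl G) (N : Subgroup G) [N.Normal] : Cl (G ⧸ N) :=
  h.of_surjective (QuotientGroup.mk' N) (QuotientGroup.mk'_surjective N)

theorem Cl.of_injective {G H : Type*} [Group G] [Group H] (h : Cl H) (f : G →* H)
    (hf : Function.Injective f) : Cl G := by
  intro g
  rw [← orderOf_injective f hf g]
  exact h _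

/-- orders of products of commuting elements of coprime order -/
theorem Cl.mul {G : Type*} [Group G] (h : Cl G) {x y : G} {m n : ℕ} (hx : orderOf x = m)
    (hy : orderOf y = n) (hxy : Commute x y) (hmn : m.Coprime n) : m * n ∈ om := by
  rw [← hx, ← hy, ← hxy.orderOf_mul_eq_mul_orderOf_of_coprime (by rw [hx, hy]; exact hmn)]
  exact h _

theorem Cl.mul3 {G : Type*} [Group G] (h : Cl G) {x y z : G} {l m n : ℕ} (hx : orderOf x = l)
    (hy : orderOf y = m) (hz : orderOf z = n) (hxy : Commute x y) (hxz : Commute x z)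
    (hyz : Commute y z) (hlm : l.Coprime m) (hln : l.Coprime n) (hmn : m.Coprime n) :
    l * m * n ∈ om := by
  refine h.mul (x := x * y) (y := z) ?_ hz (hxz.mul_left hyz) (Nat.Coprime.mul_left hln hmn)
  rw [hxy.orderOf_mul_eq_mul_orderOf_of_coprime (by rw [hx, hy]; exact hlm), hx, hy]

/-- the primes `2, 7, 11, 19` -/
def rho : Finset ℕ := {2, 7, 11, 19}

/-- the primes `7, 11, 19` -/
def pi : Finset ℕ := {7, 11, 19}

theorem pi_le {p : ℕ} (hp : p ∈ pi) : p ∈ rho := by
  revert p; decide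

theorem rho_prime {p : ℕ} (hp : p ∈ rho) : p.Prime := by
  simp only [rho, Finset.mem_insert, Finset.mem_singleton] at hp
  rcases hp with rfl | rfl | rfl | rfl <;> norm_num

theorem pi_prime {p : ℕ} (hp : p ∈ pi) : p.Prime := rho_prime (pi_le hp)

theorem rho_coprime {p q : ℕ} (hp : p ∈ rho) (hq : q ∈ rho) (h : p ≠ q) : p.Coprime q :=
  (Nat.coprime_primes (rho_prime hp) (rho_prime hq)).mpr h

theorem rho_triple : ∀ p ∈ rho, ∀ q ∈ rho, ∀ r ∈ rho, p ≠ q → p ≠ r → q ≠ r → p * q * r ∉ om := by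
  decide +kernel

theorem om_sq : ∀ n ∈ om, ∀ p ∈ Finset.range 20, 2 ≤ p → ¬ p * p ∣ n := by decide +kernel

/-- a `p`-subgroup has exponent `p` -/
theorem Cl.pow_eq_one {G : Type*} [Group G] (h : Cl G) {p : ℕ} (hp : p.Prime) {P : Subgroup G}
    (hP : IsPGroup p P) {g : G} (hg : g ∈ P) : g ^ p = 1 := by
  have : Fact p.Prime := ⟨hp⟩
  obtain ⟨k, hk⟩ := IsPGroup.iff_orderOf.mp hP ⟨g, hg⟩
  rw [← Subgroup.orderOf_coe] at hk
  have hk' : orderOf g = p ^ k := hk
  rcases Nat.lt_or_ge k 2 with h2 | h2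
  · rw [← orderOf_dvd_iff_pow_eq_one, hk']
    calc p ^ k ∣ p ^ 1 := pow_dvd_pow p (by omega)
      _ = p := pow_one p
  · exfalso
    have h3 : p * p ∣ orderOf g := by
      rw [hk', ← pow_two]
      exact pow_dvd_pow p h2
    have h4 := Nat.le_of_dvd (om_pos _ (h g)) h3
    have h5 := om_le _ (h g)
    have h6 : p < 20 := by
      by_contra hcon
      have h7 : 20 ≤ p := by omega
      have := Nat.mul_le_mul h7 h7
      omega
    exact om_sq _ (h g) p (Finset.mem_range.mpr h6) hp.two_le h3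

theorem Cl.orderOf_eq {G : Type*} [Group G] (h : Cl G) {p : ℕ} (hp : p.Prime) {P : Subgroup G}
    (hP : IsPGroup p P) {g : G} (hg : g ∈ P) (h1 : g ≠ 1) : orderOf g = p := by
  have : Fact p.Prime := ⟨hp⟩
  exact orderOf_eq_prime (h.pow_eq_one hp hP hg) h1

/-- 2-subgroups are abelian -/
theorem Cl.two_comm {G : Type*} [Group G] (h : Cl G) {P : Subgroup G} (hP : IsPGroup 2 P) :
    ∀ a ∈ P, ∀ b ∈ P, a * b = b * a := by
  intro a ha b hb
  have hsq : ∀ x ∈ P, x⁻¹ = x := by
    intro x hx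
    have := h.pow_eq_one Nat.prime_two hP hx
    rw [pow_two] at this
    exact inv_eq_of_mul_eq_one_right this
  calc a * b = (a * b)⁻¹ := (hsq _ (mul_mem ha hb)).symm
    _ = b⁻¹ * a⁻¹ := mul_inv_rev _ _
    _ = b * a := by rw [hsq a ha, hsq b hb]

theorem om_prime' : ∀ n ∈ om, (n = 2 ∨ n = 3 ∨ n = 5 ∨ n = 7 ∨ n = 11 ∨ n = 19) ∨ n = 1 ∨
    ∃ d ∈ Finset.range 20, d ≠ 1 ∧ d ≠ n ∧ d ∣ n := by decide +kernel

/-- the primes dividing the order -/
theorem om_prime {n : ℕ} (hn : n ∈ om) (hp : n.Prime) :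
    n = 2 ∨ n = 3 ∨ n = 5 ∨ n = 7 ∨ n = 11 ∨ n = 19 := by
  rcases om_prime' n hn with h | h | ⟨d, -, h1, h2, h3⟩
  · exact h
  · exact (hp.one_lt.ne' h).elim
  · rcases (Nat.dvd_prime hp).mp h3 with h | h
    · exact (h1 h).elim
    · exact (h2 h).elim

theorem Cl.prime_dvd {G : Type*} [Group G] [Finite G] (h : Cl G) {p : ℕ} (hp : p.Prime)
    (hd : p ∣ Nat.card G) : p = 2 ∨ p = 3 ∨ p = 5 ∨ p = 7 ∨ p = 11 ∨ p = 19 := by
  have : Fact p.Prime := ⟨hp⟩
  obtain ⟨x, hx⟩ := exists_prime_orderOf_dvd_card' (G := G) p hd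
  exact om_prime (by rw [← hx]; exact h x) hp

end Cfsg.Agent.H389.JSq
end

-- part: H389/Basic
section
/-!
# Element orders, lifts modulo normal subgroups of coprime order (helper389)
-/

set_option autoImplicit false

namespace Cfsg.Agent.H389.JSq

open Subgroup
open Cfsg.Agent.H381.Lucido (Edge)

/-- `X` has an element of order `n` -/
def Has (X : Type*) [Group X] (n : ℕ) : Prop := ∃ g : X, orderOf g = n

section

variable {X Y : Type*} [Group X] [Group Y]

theorem orderOf_pow_div' [Finite X] {g : X} {n : ℕ} (h : n ∣ orderOf g) :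
    orderOf (g ^ (orderOf g / n)) = n := by
  have hpos : 0 < orderOf g := orderOf_pos g
  obtain ⟨k, hk⟩ := h
  have hn0 : 0 < n := Nat.pos_of_ne_zero (by rintro rfl; rw [zero_mul] at hk; omega)
  have hk0 : k ≠ 0 := by rintro rfl; rw [mul_zero] at hk; omega
  rw [hk, Nat.mul_div_cancel_left _ hn0, orderOf_pow_of_dvd hk0 ⟨n, by rw [hk]; ring⟩, hk,
    Nat.mul_div_cancel _ (Nat.pos_of_ne_zero hk0)]

theorem Has.dvd [Finite X] {n d : ℕ} (h : Has X n) (hd : d ∣ n) : Has X d := by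
  obtain ⟨g, rfl⟩ := h
  exact ⟨_, orderOf_pow_div' hd⟩

theorem Has.of_dvd_orderOf [Finite X] {n : ℕ} {g : X} (h : n ∣ orderOf g) : Has X n :=
  Has.dvd ⟨g, rfl⟩ h

theorem Has.of_surjective [Finite X] {n : ℕ} (f : X →* Y) (hf : Function.Surjective f)
    (h : Has Y n) : Has X n := by
  obtain ⟨y, hy⟩ := h
  obtain ⟨x, rfl⟩ := hf y
  exact Has.of_dvd_orderOf (g := x) (hy ▸ orderOf_map_dvd f x)

theorem Has.of_subgroup {H : Subgroup X} {n : ℕ} (h : Has H n) : Has X n := by
  obtain ⟨g, hg⟩ := h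
  exact ⟨g, by rw [Subgroup.orderOf_coe, hg]⟩

theorem Has.of_injective {n : ℕ} (f : X →* Y) (hf : Function.Injective f) (h : Has X n) :
    Has Y n := by
  obtain ⟨g, hg⟩ := h
  exact ⟨f g, by rw [orderOf_injective f hf, hg]⟩

theorem Has.of_commute {x y : X} {m n : ℕ} (hxy : Commute x y) (hx : orderOf x = m)
    (hy : orderOf y = n) (h : m.Coprime n) : Has X (m * n) :=
  ⟨x * y, H381.Tools.orderOf_mul hxy hx hy h⟩

theorem Cl.has (h : Cl X) {n : ℕ} (hn : Has X n) : n ∈ om := by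
  obtain ⟨g, rfl⟩ := hn; exact h g

theorem Has.of_edge {M : Subgroup X} {a b : ℕ} (h : Edge M a b) (hab : a.Coprime b) :
    Has M (a * b) := by
  obtain ⟨x, hx, y, hy, h1, h2, h3⟩ := h
  refine ⟨⟨x * y, mul_mem hx hy⟩, ?_⟩
  rw [Subgroup.orderOf_mk]
  exact H381.Tools.orderOf_mul h1 h2 h3 hab

/-- `t` an element commuting with `M` of order prime to those of `M` -/
theorem Has.mul_cent {M : Subgroup X} {t : X} {m n : ℕ} (ht : orderOf t = m)
    (hM : M ≤ centralizer ({t} : Set X)) (h : Has M n) (hmn : m.Coprime n) : Has X (m * n) := by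
  obtain ⟨g, hg⟩ := h
  refine Has.of_commute (x := t) (y := (g : X)) ?_ ht (by rw [Subgroup.orderOf_coe, hg]) hmn
  exact H381.Tools.mem_cent_iff.mp (hM g.2)

theorem Cl.no_mul_cent (h : Cl X) {M : Subgroup X} {t : X} {m n : ℕ} (ht : orderOf t = m)
    (hM : M ≤ centralizer ({t} : Set X)) (hM' : Has M n) (hmn : m.Coprime n)
    (hno : m * n ∉ om) : False :=
  hno (h.has (Has.mul_cent ht hM hM' hmn))

theorem dvd_card_of_has [Finite X] {n : ℕ} (h : Has X n) : n ∣ Nat.card X := by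
  obtain ⟨g, rfl⟩ := h; exact orderOf_dvd_natCard g

theorem Has.of_prime_dvd [Finite X] {p : ℕ} (hp : p.Prime) (h : p ∣ Nat.card X) : Has X p := by
  have : Fact p.Prime := ⟨hp⟩
  exact exists_prime_orderOf_dvd_card' p h

end

section lift

variable {X Y : Type*} [Group X] [Finite X] [Group Y] (f : X →* Y)

/-- elements of coprime order with the same image are conjugate under the kernel -/
theorem conj_of_map_eq {a b : X} (ha : (orderOf a).Coprime (Nat.card f.ker))
    (hb : (orderOf b).Coprime (Nat.card f.ker)) (hab : f a = f b) : ∃ n ∈ f.ker, n * a * n⁻¹ = b := by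
  apply H466.RealLift.exists_conj_of_coset f.ker ha hb
  rw [MonoidHom.mem_ker, map_mul, map_inv, hab, inv_mul_cancel]

/-- lifting an element commuting with the image -/
theorem exists_comm_lift {a g : X} (ha : (orderOf a).Coprime (Nat.card f.ker))
    (hg : Commute (f a) (f g)) : ∃ n ∈ f.ker, Commute a (n * g) := by
  have h1 : f (g * a * g⁻¹) = f a := by
    rw [map_mul, map_mul, map_inv, ← hg.eq, mul_inv_cancel_right]
  have h2 : orderOf (g * a * g⁻¹) = orderOf a := (MulAut.conj g).orderOf_eq a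
  obtain ⟨n, hn, hc⟩ := conj_of_map_eq f (a := g * a * g⁻¹) (b := a) (by rw [h2]; exact ha) ha h1
  refine ⟨n, hn, ?_⟩
  show a * (n * g) = n * g * a
  calc a * (n * g) = (n * (g * a * g⁻¹) * n⁻¹) * (n * g) := by rw [hc]
    _ = n * g * a := by group

/-- a lift of order prime to the kernel -/
theorem exists_lift {g : X} {n : ℕ} (hg : orderOf (f g) = n) (hn : n.Coprime (Nat.card f.ker)) :
    ∃ k : ℕ, f (g ^ k) = f g ∧ orderOf (g ^ k) = n := by
  have hker : f.ker.Normal := inferInstance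
  -- `g ^ n` lies in the kernel
  have h1 : g ^ n ∈ f.ker := by
    rw [MonoidHom.mem_ker, map_pow, ← hg, pow_orderOf_eq_one]
  have h2 : (g ^ n) ^ Nat.card f.ker = 1 := by
    have := pow_card_eq_one' (x := (⟨g ^ n, h1⟩ : f.ker))
    exact congrArg Subtype.val this
  set c := Nat.card f.ker with hc
  have h3 : c.Coprime (orderOf (f g)) := by rw [hg]; exact hn.symm
  obtain ⟨u, hu⟩ := exists_pow_eq_self_of_coprime h3
  refine ⟨c * u, ?_, ?_⟩
  · rw [pow_mul, map_pow, map_pow]; exact hu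
  · apply Nat.dvd_antisymm
    · rw [orderOf_dvd_iff_pow_eq_one, ← pow_mul]
      calc g ^ (c * u * n) = ((g ^ n) ^ c) ^ u := by rw [← pow_mul, ← pow_mul]; congr 1; ring
        _ = 1 := by rw [h2, one_pow]
    · have h4 : orderOf (f (g ^ (c * u))) ∣ orderOf (g ^ (c * u)) := orderOf_map_dvd f _
      rw [pow_mul, map_pow, map_pow, hu, hg, ← pow_mul] at h4
      exact h4

theorem exists_lift_surj (hf : Function.Surjective f) {y : Y} {n : ℕ} (hy : orderOf y = n)
    (hn : n.Coprime (Nat.card f.ker)) : ∃ g : X, f g = y ∧ orderOf g = n := by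
  obtain ⟨g, rfl⟩ := hf y
  obtain ⟨k, h1, h2⟩ := exists_lift f hy hn
  exact ⟨g ^ k, h1, h2⟩

/-- an element of order prime to the kernel has the same order in the image -/
theorem orderOf_map_eq {a : X} (ha : (orderOf a).Coprime (Nat.card f.ker)) :
    orderOf (f a) = orderOf a := by
  apply Nat.dvd_antisymm (orderOf_map_dvd f a)
  rw [orderOf_dvd_iff_pow_eq_one]
  have h1 : a ^ orderOf (f a) ∈ f.ker := by
    rw [MonoidHom.mem_ker, map_pow, pow_orderOf_eq_one]
  have h2 : orderOf (a ^ orderOf (f a)) ∣ Nat.card f.ker := Subgroup.orderOf_dvd_natCard _ h1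
  have h3 : orderOf (a ^ orderOf (f a)) ∣ orderOf a := orderOf_pow_dvd _
  exact orderOf_eq_one_iff.1 (Nat.dvd_one.1 (ha ▸ Nat.dvd_gcd h3 h2))

end lift

end Cfsg.Agent.H389.JSq
end

private theorem dce_9f38bc6f4c60 : _root_.True := by
  try have : _root_.True := by simp only [_root_.Cfsg.Agent.H389.JSq.rho.eq_1]
  exact _root_.True.intro
end

-- part: H389/R/Def
section
set_option linter.all false
open scoped Cfsg.Agent.FastGrp

-- part: H389/R/Cov
section
/-!
# Minimal perfect supplements and Sylow systems (helper389)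

`exists_system`: a solvable subgroup `N` normalised by `D ≥ N`: a subgroup `S ≤ D` with `S N = D` normalising a
complete system of Hall subgroups of `N`. `Cov f D E P H`: `P ≤ D` minimal with `f(P) = E`, normalising the
Hall system `H` of `D ∩ ker f`.
-/

set_option autoImplicit false
set_option linter.unusedSectionVars false

namespace Cfsg.Agent.H389.RSq

open Subgroup
open scoped Pointwise
open Cfsg.Agent.OddOrderLocal.HallPi
open Cfsg.Agent.SolvableStructure.ComplementSystem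

section system

variable {X : Type*} [Group X] [Finite X]

/-- Hall `p`-complements exist -/
theorem exists_compl {G : Type*} [Group G] [Finite G] [Group.IsSolvable G] (p : Nat.Primes) :
    ∃ K : Subgroup G, K.index = (p : ℕ) ^ (Nat.card G).factorization p := by
  obtain ⟨K, hK1, hK2, -⟩ := exists_hall_ge_top (G := G) {q | q ≠ (p : ℕ)} (X := ⊥) (by
    intro q hq h
    rw [Subgroup.card_bot] at h
    exact (hq.one_lt.ne' (Nat.dvd_one.mp h)).elim)
  refine ⟨K, ?_⟩
  have hidx : K.index ≠ 0 := Subgroup.index_ne_zero_of_finite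
  have h1 : K.index = (p : ℕ) ^ K.index.primeFactorsList.length :=
    Nat.eq_prime_pow_of_unique_prime_dvd hidx (fun {q} hq h => by
      by_contra hne
      exact hK2 q hq hne h)
  refine index_eq_of_coprime p.2 h1 ?_
  rw [Nat.coprime_comm, Nat.Prime.coprime_iff_not_dvd p.2]
  intro h
  exact hK1 p p.2 h rfl

omit [Finite X] in
theorem mem_normalizer_iInf {ι : Sort*} {L : ι → Subgroup X} {g : X}
    (h : ∀ i, g ∈ normalizer (L i : Set X)) : g ∈ normalizer ((⨅ i, L i : Subgroup X) : Set X) := by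
  rw [mem_normalizer_iff]
  intro x
  rw [mem_iInf, mem_iInf]
  exact forall_congr' fun i => mem_normalizer_iff.mp (h i) x

omit [Finite X] in
theorem mem_normalizer_inf {A B : Subgroup X} {g : X}
    (hA : g ∈ normalizer (A : Set X)) (hB : g ∈ normalizer (B : Set X)) :
    g ∈ normalizer ((A ⊓ B : Subgroup X) : Set X) := by
  rw [mem_normalizer_iff]
  intro x
  rw [mem_inf, mem_inf]
  exact and_congr (mem_normalizer_iff.mp hA x) (mem_normalizer_iff.mp hB x)

/-- **a supplement normalising a system of Hall subgroups** -/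
theorem exists_system {N D : Subgroup X} (hN : Group.IsSolvable N) (hND : N ≤ D)
    (hDN : D ≤ normalizer (N : Set X)) :
    ∃ S ≤ D, (∀ d ∈ D, ∃ n ∈ N, ∃ s ∈ S, d = n * s) ∧ ∃ H : Set ℕ → Subgroup X,
      (∀ π, Cfsg.IsPiHallOf π (H π) N) ∧ (∀ π ρ, π ⊆ ρ → H π ≤ H ρ) ∧
        ∀ π, S ≤ normalizer (H π : Set X) := by
  classical
  choose K hK using fun p : Nat.Primes => exists_compl (G := N) p
  set L : Nat.Primes → Subgroup X := fun p => (K p).map N.subtype with hL
  have hLN : ∀ p, L p ≤ N := fun p => map_subtype_le _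
  have hLK : ∀ p, (L p).subgroupOf N = K p := fun p => by
    rw [hL]; exact comap_map_eq_self_of_injective N.subtype_injective _
  have hLc : ∀ p, Nat.card (L p) = Nat.card (K p) := fun p =>
    (Nat.card_congr ((K p).equivMapOfInjective _ N.subtype_injective).toEquiv).symm
  set S : Subgroup X := D ⊓ ⨅ p, normalizer (L p : Set X) with hS
  have hSL : ∀ p, S ≤ normalizer (L p : Set X) := fun p => inf_le_right.trans (iInf_le _ p)
  refine ⟨S, inf_le_left, ?_, ?_⟩
  · intro d hd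
    have hdN : ∀ x ∈ N, d * x * d⁻¹ ∈ N := fun x hx => (mem_normalizer_iff.mp (hDN hd) x).mp hx
    set L' : Nat.Primes → Subgroup X := fun p => (L p).map (MulAut.conj d).toMonoidHom with hL'
    have hL'N : ∀ p, L' p ≤ N := by
      rintro p _ ⟨x, hx, rfl⟩
      exact hdN x (hLN p hx)
    have hcard : ∀ p, Nat.card (L' p) = Nat.card (L p) := fun p =>
      (Nat.card_congr ((L p).equivMapOfInjective _ (MulAut.conj d).injective).toEquiv).symm
    have hsys : Cfsg.IsComplementSystem (fun p => (L' p).subgroupOf N) := by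
      intro p
      have h1 : Nat.card ((L' p).subgroupOf N) = Nat.card (K p) := by
        rw [Nat.card_congr (subgroupOfEquivOfLe (hL'N p)).toEquiv, hcard, hLc]
      have h2 := ((L' p).subgroupOf N).card_mul_index
      have h3 := (K p).card_mul_index
      rw [h1, ← h3] at h2
      rw [Nat.eq_of_mul_eq_mul_left Nat.card_pos h2]
      exact hK p
    obtain ⟨n, hn⟩ := Cfsg.Agent.S0543.result K (fun p => (L' p).subgroupOf N) hK hsys
    have hconj : ∀ p x, x ∈ L p ↔ (n : X) * x * (n : X)⁻¹ ∈ L' p := by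
      intro p x
      constructor
      · intro hx
        have h1 : (⟨x, hLN p hx⟩ : N) ∈ K p := by rw [← hLK p, mem_subgroupOf]; exact hx
        have h2 : MulAut.conj n • (⟨x, hLN p hx⟩ : N) ∈ MulAut.conj n • K p :=
          Subgroup.smul_mem_pointwise_smul _ _ _ h1
        rw [hn p, mem_subgroupOf] at h2
        exact h2
      · intro hx
        have hxN : x ∈ N := by
          have h0 := hL'N p hx
          have h1 : (n : X)⁻¹ * ((n : X) * x * (n : X)⁻¹) * n ∈ N := mul_mem (mul_mem (inv_mem n.2) h0) n.2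
          have h2 : (n : X)⁻¹ * ((n : X) * x * (n : X)⁻¹) * n = x := by group
          rwa [h2] at h1
        have h1 : MulAut.conj n • (⟨x, hxN⟩ : N) ∈ MulAut.conj n • K p := by
          rw [hn p, mem_subgroupOf]; exact hx
        have h2 : (⟨x, hxN⟩ : N) ∈ K p := by
          rwa [Subgroup.smul_mem_pointwise_smul_iff] at h1
        rw [← hLK p, mem_subgroupOf] at h2
        exact h2
    have hmemL' : ∀ p x, x ∈ L' p ↔ d⁻¹ * x * d ∈ L p := by
      intro p x
      constructor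
      · rintro ⟨y, hy, rfl⟩
        have : d⁻¹ * ((MulAut.conj d).toMonoidHom y) * d = y := by
          show d⁻¹ * (d * y * d⁻¹) * d = y
          group
        rw [this]; exact hy
      · intro hx
        refine ⟨_, hx, ?_⟩
        show d * (d⁻¹ * x * d) * d⁻¹ = x
        group
    refine ⟨n, n.2, (n : X)⁻¹ * d, mem_inf.mpr ⟨D.mul_mem (D.inv_mem (hND n.2)) hd, ?_⟩, by group⟩
    rw [mem_iInf]
    intro p
    rw [mem_normalizer_iff]
    intro x
    have e1 : d⁻¹ * ((n : X) * (((n : X)⁻¹ * d) * x * ((n : X)⁻¹ * d)⁻¹) * (n : X)⁻¹) * d = x := by group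
    rw [hconj p ((n : X)⁻¹ * d * x * ((n : X)⁻¹ * d)⁻¹), hmemL', e1]
  · refine ⟨fun π => N ⊓ ⨅ p : Nat.Primes, ⨅ _ : (p : ℕ) ∉ π, L p, ?_, ?_, ?_⟩
    · intro π
      refine ⟨inf_le_left, ?_, ?_⟩
      · intro q hq h
        by_contra hqπ
        have h1 : N ⊓ ⨅ p : Nat.Primes, ⨅ _ : (p : ℕ) ∉ π, L p ≤ L ⟨q, hq⟩ :=
          inf_le_right.trans ((iInf_le _ (⟨q, hq⟩ : Nat.Primes)).trans (iInf_le _ hqπ))
        have h2 := h.trans (card_dvd_of_le h1)
        rw [hLc ⟨q, hq⟩] at h2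
        have h3 := coprime_card_of_index hq (hK ⟨q, hq⟩)
        rw [Nat.coprime_comm, Nat.Prime.coprime_iff_not_dvd hq] at h3
        exact h3 h2
      · intro q hq hqπ h
        -- a finite set of primes
        have hfin : Set.Finite {p : Nat.Primes | (p : ℕ) ∣ Nat.card N ∧ (p : ℕ) ∉ π} := by
          apply Set.Finite.of_finite_image (f := ((↑) : Nat.Primes → ℕ))
          · refine (Nat.card N).primeFactors.finite_toSet.subset ?_
            rintro _ ⟨p, ⟨hp, -⟩, rfl⟩
            rw [Finset.mem_coe, Nat.mem_primeFactors]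
            exact ⟨p.2, hp, Nat.card_pos.ne'⟩
          · exact Subtype.val_injective.injOn
        have h1 : (⨅ p ∈ hfin.toFinset, K p).index = ∏ p ∈ hfin.toFinset, (K p).index := by
          apply index_iInf_of_coprime
          intro i _ j _ hij
          rw [hK i, hK j]
          apply Nat.Coprime.pow
          rw [Nat.coprime_primes i.2 j.2]
          exact fun h => hij (Subtype.ext h)
        have h2 : (N ⊓ ⨅ p : Nat.Primes, ⨅ _ : (p : ℕ) ∉ π, L p).subgroupOf N = ⨅ p ∈ hfin.toFinset, K p := by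
          ext x
          rw [mem_subgroupOf, mem_inf, mem_iInf, mem_iInf]
          constructor
          · rintro ⟨-, h⟩ p
            rw [mem_iInf]
            intro hp
            rw [Set.Finite.mem_toFinset] at hp
            have h3 := h p
            rw [mem_iInf] at h3
            rw [← hLK p, mem_subgroupOf]
            exact h3 hp.2
          · intro h
            refine ⟨x.2, fun p => ?_⟩
            rw [mem_iInf]
            intro hp
            rw [← mem_subgroupOf, hLK]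
            by_cases hpN : (p : ℕ) ∣ Nat.card N
            · have h3 := h p
              rw [mem_iInf] at h3
              exact h3 (by rw [Set.Finite.mem_toFinset]; exact ⟨hpN, hp⟩)
            · have h3 : (K p).index = 1 := by
                rw [hK p, Nat.factorization_eq_zero_of_not_dvd hpN, pow_zero]
              rw [index_eq_one.mp h3]
              exact mem_top x
        have h3 : (N ⊓ ⨅ p : Nat.Primes, ⨅ _ : (p : ℕ) ∉ π, L p).relIndex N =
            ∏ p ∈ hfin.toFinset, (K p).index := by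
          rw [relIndex, h2, h1]
        rw [h3] at h
        obtain ⟨p, hp, hqp⟩ := (Prime.dvd_finsetProd_iff (Nat.Prime.prime hq) _).mp h
        rw [Set.Finite.mem_toFinset] at hp
        rw [hK p] at hqp
        have h4 := (Nat.prime_dvd_prime_iff_eq hq p.2).mp (hq.dvd_of_dvd_pow hqp)
        exact hp.2 (h4 ▸ hqπ)
    · intro π ρ h
      refine inf_le_inf_left _ (iInf_mono fun p => ?_)
      exact le_iInf fun hp => iInf_le _ (fun h' => hp (h h'))
    · intro π g hg
      apply mem_normalizer_inf (hDN hg.1)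
      exact mem_normalizer_iInf fun p => mem_normalizer_iInf fun _ => hSL p hg

end system

section cov

variable {X Y : Type*} [Group X] [Finite X] [Group Y]

/-- a minimal subgroup `P ≤ D` with image `E`, normalising a system of Hall subgroups of `D ∩ ker f` -/
structure Cov (f : X →* Y) (D : Subgroup X) (E : Subgroup Y) (P : Subgroup X)
    (H : Set ℕ → Subgroup X) : Prop where
  le : P ≤ D
  map : P.map f = E
  min : ∀ Q ≤ P, Q.map f = E → Q = P
  hall : ∀ π, Cfsg.IsPiHallOf π (H π) (D ⊓ f.ker)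
  mono : ∀ π ρ, π ⊆ ρ → H π ≤ H ρ
  norm : ∀ π, P ≤ normalizer (H π : Set X)

theorem exists_cov {f : X →* Y} {D : Subgroup X} {E : Subgroup Y}
    (hN : Group.IsSolvable (D ⊓ f.ker : Subgroup X)) (hE : E ≤ D.map f) :
    ∃ P H, Cov f D E P H := by
  classical
  have hDN : D ≤ normalizer ((D ⊓ f.ker : Subgroup X) : Set X) := by
    intro d hd
    apply mem_normalizer_inf (le_normalizer hd)
    exact (normalizer_eq_top_iff.2 (inferInstance : f.ker.Normal)) ▸ mem_top d
  obtain ⟨S, hSD, hS, H, h1, h2, h3⟩ := exists_system hN inf_le_left hDN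
  have hSmap : S.map f = D.map f := by
    apply le_antisymm (map_mono hSD)
    rintro _ ⟨d, hd, rfl⟩
    obtain ⟨n, hn, s, hs, rfl⟩ := hS d hd
    refine ⟨s, hs, ?_⟩
    rw [map_mul, (mem_inf.mp hn).2, one_mul]
  have hne : {Q : Subgroup X | Q ≤ S ∧ Q.map f = E}.Nonempty := by
    refine ⟨S ⊓ E.comap f, inf_le_left, ?_⟩
    apply le_antisymm
    · rintro _ ⟨x, hx, rfl⟩
      exact hx.2
    · intro y hy
      have : y ∈ S.map f := by rw [hSmap]; exact hE hy
      obtain ⟨x, hx, rfl⟩ := this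
      exact ⟨x, ⟨hx, hy⟩, rfl⟩
  obtain ⟨P, hP⟩ := (Set.toFinite {Q : Subgroup X | Q ≤ S ∧ Q.map f = E}).exists_minimal hne
  refine ⟨P, H, hP.1.1.trans hSD, hP.1.2, ?_, h1, h2, fun π => hP.1.1.trans (h3 π)⟩
  intro Q hQ hQE
  exact le_antisymm hQ (hP.2 ⟨hQ.trans hP.1.1, hQE⟩ hQ)

namespace Cov

variable {f : X →* Y} {D : Subgroup X} {E : Subgroup Y} {P : Subgroup X} {H : Set ℕ → Subgroup X}
  (C : Cov f D E P H)
include C

theorem perfect (hE : ⁅E, E⁆ = E) : ⁅P, P⁆ = P := by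
  apply C.min
  · exact commutator_le.mpr fun a ha b hb => mul_mem (mul_mem (mul_mem ha hb) (inv_mem ha)) (inv_mem hb)
  · rw [map_commutator, C.map, hE]

theorem mem_map {x : X} (hx : x ∈ P) : f x ∈ E := by
  rw [← C.map]; exact mem_map_of_mem f hx

theorem ker_le : P ⊓ f.ker ≤ D ⊓ f.ker := inf_le_inf_right _ C.le

omit C in
theorem le_normalizer_ker (P : Subgroup X) (f : X →* Y) : P ≤ normalizer ((P ⊓ f.ker : Subgroup X) : Set X) := by
  intro d hd
  apply mem_normalizer_inf (le_normalizer hd)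
  exact (normalizer_eq_top_iff.2 (inferInstance : f.ker.Normal)) ▸ mem_top d

/-- the Sylow subgroups of `P ∩ ker f` are normalised by `P` -/
theorem exists_J (hs : Group.IsSolvable (D ⊓ f.ker : Subgroup X)) :
    ∃ J : ℕ → Subgroup X, ∀ ℓ, Cfsg.IsPiHallOf {ℓ} (J ℓ) (P ⊓ f.ker) ∧ P ≤ normalizer (J ℓ : Set X) := by
  have hZ : Group.IsSolvable (P ⊓ f.ker : Subgroup X) :=
    Group.isSolvable_of_isSolvable_injective (f := Subgroup.inclusion C.ker_le)
      (Subgroup.inclusion_injective _)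
  choose J hJ using fun ℓ : ℕ => exists_isPiHallOf hZ ({ℓ} : Set ℕ)
  refine ⟨J, fun ℓ => ⟨hJ ℓ, ?_⟩⟩
  have h1 := frattini hZ inf_le_left (le_normalizer_ker P f) (hJ ℓ)
  have h2 : P ⊓ normalizer (J ℓ : Set X) = P := by
    apply C.min _ inf_le_left
    rw [← C.map]
    apply le_antisymm (map_mono inf_le_left)
    rintro _ ⟨x, hx, rfl⟩
    obtain ⟨n, hn, k, hk, rfl⟩ := h1 x hx
    refine ⟨k, hk, ?_⟩
    rw [map_mul, (mem_inf.mp hn).2, one_mul]
  exact inf_eq_left.mp h2

end Cov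

end cov

end Cfsg.Agent.H389.RSq
end

-- part: H389/R/Def
section
/-!
# S3530: definitions (helper389)

`q = 3 ^ (2 * m + 1)`. `cls m p` is the class of the odd prime `p`: `0` for `p = 3`, `1` for `p ∣ q - 1`, `2` for `p ∣ q + 1`,
`3` for `p ∣ q - √(3q) + 1`, `4` otherwise (so `4` for the primes of `q + √(3q) + 1`).
`Cl m X`: the element orders of `X` satisfy the constraints of `ω(²G₂(q) × ²G₂(q))` that are used.
`Sig m σ`: a choice of one prime in each class.
`IsPSL s f L`: `L ≅ PSL(2, s^f)`; `IsL2`: moreover `5 ∤ |L|`, `f` odd and `L` simple with Sylow `2`-subgroups of exponent `2`.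
`IsRee m L`: `L ≅ ²G₂(3^(2m+1))`, `m ≥ 1`.
-/

set_option autoImplicit false
set_option linter.unusedSectionVars false

namespace Cfsg.Agent.H389.RSq

open Subgroup
open Cfsg.Agent.H389.JSq (Has)

/-- the class of an odd prime -/
def cls (m p : ℕ) : Fin 5 :=
  if p = 3 then 0 else if p ∣ 3 ^ (2 * m + 1) - 1 then 1 else if p ∣ 3 ^ (2 * m + 1) + 1 then 2
    else if p ∣ 3 ^ (2 * m + 1) - 3 ^ (m + 1) + 1 then 3 else 4

/-- the order of `²G₂(3^(2m+1))` -/
def reeCard (m : ℕ) : ℕ :=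
  (3 ^ (2 * m + 1)) ^ 3 * ((3 ^ (2 * m + 1)) ^ 3 + 1) * (3 ^ (2 * m + 1) - 1)

/-- the constraints on element orders -/
structure Cl (m : ℕ) (X : Type*) [Group X] : Prop where
  prm : ∀ (g : X) (p : ℕ), p.Prime → p ∣ orderOf g → p ∣ reeCard m
  four : ∀ g : X, ¬ 4 ∣ orderOf g
  nine : ∀ g : X, ¬ 27 ∣ orderOf g
  tri : ∀ (g : X) (p q r : ℕ), p.Prime → q.Prime → r.Prime → p ≠ 2 → q ≠ 2 → r ≠ 2 →
    cls m p ≠ cls m q → cls m p ≠ cls m r → cls m q ≠ cls m r →
    p ∣ orderOf g → q ∣ orderOf g → ¬ r ∣ orderOf g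
  two : ∀ (g : X) (p q : ℕ), p.Prime → q.Prime → cls m p = 3 → cls m q = 4 →
    p ∣ orderOf g → q ∣ orderOf g → ¬ 2 ∣ orderOf g
  eighteen : ∀ (g : X) (p : ℕ), p.Prime → (cls m p = 3 ∨ cls m p = 4) →
    p ∣ orderOf g → ¬ 18 ∣ orderOf g

/-- a choice of a prime in each class -/
structure Sig (m : ℕ) (σ : Fin 5 → ℕ) : Prop where
  prime : ∀ i, (σ i).Prime
  ne_two : ∀ i, σ i ≠ 2
  cls : ∀ i, cls m (σ i) = i
  zero : σ 0 = 3
  dvd : ∀ i, σ i ∣ reeCard m
  one : ¬ σ 1 ∣ 2 * m + 1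
  two : ¬ σ 2 ∣ 2 * m + 1
  big : ∃ γ, (γ = 3 ∨ γ = 4) ∧ ¬ σ γ ∣ 2 * m + 1
  ree : ∀ m₁, 1 ≤ m₁ → m₁ ≠ m → (∀ p : ℕ, p.Prime → p ∣ reeCard m₁ → p ∣ reeCard m) →
    (Finset.univ.filter fun i : Fin 5 => σ i ∣ reeCard m₁).card ≤ 2

/-- all pairs of classes are joined -/
def K5 (σ : Fin 5 → ℕ) (X : Type*) [Group X] : Prop := ∀ i j, i ≠ j → Has X (σ i * σ j)

/-- the classes dividing the order of `L` -/
noncomputable def Lam (σ : Fin 5 → ℕ) (L : Type*) : Finset (Fin 5) :=
  Finset.univ.filter fun i => σ i ∣ Nat.card L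

/-- `L ≅ PSL(2, s^f)` -/
def IsPSL (s f : ℕ) (L : Type*) [Group L] : Prop :=
  s.Prime ∧ ∃ (F : Type) (_ : Field F) (_ : Fintype F), Fintype.card F = s ^ f ∧
    Nonempty (L ≃* Matrix.ProjectiveSpecialLinearGroup (Fin 2) F)

/-- the components of linear type -/
structure IsL2 (s f : ℕ) (L : Type*) [Group L] : Prop where
  psl : IsPSL s f L
  odd : Odd f
  five : ¬ 5 ∣ Nat.card L
  type : (s = 2 ∧ 3 ≤ f) ∨ (s ≠ 2 ∧ (s ^ f % 8 = 3 ∨ s ^ f % 8 = 5) ∧ 13 ≤ s ^ f)

/-- the components of Ree type -/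
def IsRee (m : ℕ) (L : Type*) [Group L] : Prop :=
  1 ≤ m ∧ ∃ (K : Type) (_ : Field K) (_ : Fintype K), Fintype.card K = 3 ^ (2 * m + 1) ∧
    Nonempty (L ≃* Cfsg.Lie.twistedG2 K (3 ^ m))

/-- the possible components -/
def IsK (L : Type*) [Group L] : Prop := (∃ s f, IsL2 s f L) ∨ ∃ m, IsRee m L

/-- an element `h` of order `r` acting without fixed points on a nontrivial `v`-subgroup `U` -/
def Piv (L : Type*) [Group L] (v r : ℕ) : Prop :=
  ∃ (U : Subgroup L) (h : L), IsPGroup v U ∧ U ≠ ⊥ ∧ h ∈ normalizer (U : Set L) ∧ orderOf h = r ∧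
    U ⊓ centralizer {h} = ⊥

end Cfsg.Agent.H389.RSq
end
end

-- part: H381/Crit
section
set_option linter.all false
open scoped Cfsg.Agent.FastGrp

/-!
# A nonsolvability criterion from element orders

A finite group with four primes `p, q, r, s` such that all pairwise products are element orders, but no
product of three of them, is not solvable (if the set does not contain `2` and a Fermat prime).
-/

set_option autoImplicit false
set_option linter.unusedSectionVars false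

namespace Cfsg.Agent.H381.Criterion

open Subgroup
open scoped commutatorElement
open Cfsg (piCoreOf fittingOf IsPiHallOf)
open Cfsg.Agent.H381.Tools
open Cfsg.Agent.H381.Lucido
open Cfsg.Agent.OddOrderLocal.PiCoreOf (piCoreOf_le le_normalizer_piCoreOf)
open Cfsg.Agent.OddOrderLocal.FitCores (isPGroup_piCoreOf core_le_centralizer_core)
open Cfsg.Agent.SignalizersComponents.LocalGlobal (NoFixed)

universe u

variable {G : Type u} [Group G] [Finite G] {σ : Set ℕ} {p q r s : ℕ}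

section Top

/-- the prime divisors of the group order lie in `σ` -/
def PiGroup (σ : Set ℕ) (G : Type u) [Group G] : Prop := ∀ t : ℕ, t.Prime → t ∣ Nat.card G → t ∈ σ

theorem fitting_top (C : Cfg G σ) (hG : PiGroup σ G) (F : Four σ p q r s) {X : Subgroup G}
    (hp : piCoreOf {p} (⊤ : Subgroup G) ≤ X) (hq : piCoreOf {q} (⊤ : Subgroup G) ≤ X)
    (hr : piCoreOf {r} (⊤ : Subgroup G) ≤ X) (hs : piCoreOf {s} (⊤ : Subgroup G) ≤ X) {g : G}
    (gp : g ∈ centralizer (piCoreOf {p} (⊤ : Subgroup G) : Set G))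
    (gq : g ∈ centralizer (piCoreOf {q} (⊤ : Subgroup G) : Set G))
    (gr : g ∈ centralizer (piCoreOf {r} (⊤ : Subgroup G) : Set G))
    (gs : g ∈ centralizer (piCoreOf {s} (⊤ : Subgroup G) : Set G)) : g ∈ X := by
  have hsol : Group.IsSolvable G := C.solv
  have h1 : g ∈ fittingOf (⊤ : Subgroup G) := by
    apply mem_fitting' inferInstance (mem_top g)
    intro t ht htd
    rw [card_top] at htd
    rcases F.all t (hG t ht htd) with rfl | rfl | rfl | rfl
    exacts [gp, gq, gr, gs]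
  refine (fitting_le (K := X) ?_) h1
  intro t ht htd
  rw [card_top] at htd
  rcases F.all t (hG t ht htd) with rfl | rfl | rfl | rfl
  exacts [hp, hq, hr, hs]

theorem core_comm {a b : ℕ} (ha : a.Prime) (hb : b.Prime) (hab : a ≠ b) {x y : G}
    (hx : x ∈ piCoreOf {a} (⊤ : Subgroup G)) (hy : y ∈ piCoreOf {b} (⊤ : Subgroup G)) :
    Commute x y :=
  ((mem_centralizer_iff.mp (core_le_centralizer_core ha hb hab ⊤ hx) y hy).symm : x * y = y * x)

/-- two nontrivial cores -/
theorem false_of_two (C : Cfg G σ) (hG : PiGroup σ G) (F : Four σ p q r s)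
    (hp : piCoreOf {p} (⊤ : Subgroup G) ≠ ⊥) (hq : piCoreOf {q} (⊤ : Subgroup G) ≠ ⊥) : False := by
  have hsol : Group.IsSolvable G := C.solv
  have pp := C.prime p F.mp
  have qp := C.prime q F.mq
  have rp := C.prime r F.mr
  have sp := C.prime s F.ms
  have hP := isPGroup_piCoreOf pp (⊤ : Subgroup G)
  have hQ := isPGroup_piCoreOf qp (⊤ : Subgroup G)
  obtain ⟨x, hx, hxp⟩ := exists_mem_of_ne_bot pp hP hp
  obtain ⟨y, hy, hyq⟩ := exists_mem_of_ne_bot qp hQ hq
  have hr : piCoreOf {r} (⊤ : Subgroup G) = ⊥ := by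
    by_contra hne
    obtain ⟨z, hz, hzr⟩ := exists_mem_of_ne_bot rp (isPGroup_piCoreOf rp ⊤) hne
    exact C.no3 F.mp F.mq F.mr F.pq F.qr F.pr hxp hyq hzr (core_comm pp qp F.pq hx hy)
      (core_comm pp rp F.pr hx hz) (core_comm qp rp F.qr hy hz)
  have hs : piCoreOf {s} (⊤ : Subgroup G) = ⊥ := by
    by_contra hne
    obtain ⟨z, hz, hzs⟩ := exists_mem_of_ne_bot sp (isPGroup_piCoreOf sp ⊤) hne
    exact C.no3 F.mp F.mq F.ms F.pq F.qs F.ps hxp hyq hzs (core_comm pp qp F.pq hx hy)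
      (core_comm pp sp F.ps hx hz) (core_comm qp sp F.qs hy hz)
  obtain ⟨K, hK⟩ := Cfsg.Agent.OddOrderLocal.HallPi.exists_isPiHallOf (M := (⊤ : Subgroup G))
    inferInstance ({r, s} : Set ℕ)
  have B : BCtx σ p q r s (piCoreOf {p} (⊤ : Subgroup G)) (piCoreOf {q} (⊤ : Subgroup G)) K := by
    refine ⟨C, F, hP, hQ, core_le_centralizer_core pp qp F.pq ⊤,
      le_top.trans (le_normalizer_piCoreOf _ _), le_top.trans (le_normalizer_piCoreOf _ _), hp, hq,
      hK, ?_⟩
    intro t ht X hX hXP hXQ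
    by_contra hne
    have tp : t.Prime := by rcases ht with rfl | rfl; exacts [rp, sp]
    have htp : t ≠ p := by rcases ht with rfl | rfl; exacts [F.pr.symm, F.ps.symm]
    have htq : t ≠ q := by rcases ht with rfl | rfl; exacts [F.qr.symm, F.qs.symm]
    obtain ⟨z, hz, hzt⟩ := exists_mem_of_ne_bot tp hX hne
    have h1 : z ∈ piCoreOf {p} (⊤ : Subgroup G) ⊔ piCoreOf {q} (⊤ : Subgroup G) := by
      apply fitting_top C hG F le_sup_left le_sup_right (by rw [hr]; exact bot_le)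
        (by rw [hs]; exact bot_le) (hXP hz) (hXQ hz)
      · rw [hr]; exact mem_centralizer_bot z
      · rw [hs]; exact mem_centralizer_bot z
    have h2 := (dvd_card_of_mem h1 hzt).trans
      (Cfsg.Agent.SignalizersComponents.CoprimeBasic.card_sup_dvd
        (le_top.trans (le_normalizer_piCoreOf {p} ⊤)))
    rcases (Nat.Prime.dvd_mul tp).mp h2 with h | h
    · exact not_dvd_card pp tp htp hP h
    · exact not_dvd_card qp tp htq hQ h
  exact B.false

/-- exactly one nontrivial core -/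
theorem false_of_one (C : Cfg G σ) (hG : PiGroup σ G) (F : Four σ p q r s)
    (hp : piCoreOf {p} (⊤ : Subgroup G) ≠ ⊥) (hq : piCoreOf {q} (⊤ : Subgroup G) = ⊥)
    (hr : piCoreOf {r} (⊤ : Subgroup G) = ⊥) (hs : piCoreOf {s} (⊤ : Subgroup G) = ⊥) : False := by
  have hsol : Group.IsSolvable G := C.solv
  have pp := C.prime p F.mp
  have hP := isPGroup_piCoreOf pp (⊤ : Subgroup G)
  obtain ⟨H, hH⟩ := Cfsg.Agent.OddOrderLocal.HallPi.exists_isPiHallOf (M := (⊤ : Subgroup G))
    inferInstance ({q, r, s} : Set ℕ)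
  have A : ACtx σ p q r s (piCoreOf {p} (⊤ : Subgroup G)) H := by
    refine ⟨C, F, hP, hp, le_top.trans (le_normalizer_piCoreOf _ _), ?_, hH⟩
    by_contra hne
    obtain ⟨⟨z, hz⟩, hz1⟩ := Subgroup.ne_bot_iff_exists_ne_one.mp hne
    -- an element of prime order
    have h1 : z ∈ piCoreOf {p} (⊤ : Subgroup G) := by
      apply fitting_top C hG F le_rfl (by rw [hq]; exact bot_le) (by rw [hr]; exact bot_le)
        (by rw [hs]; exact bot_le) (mem_inf.mp hz).2
      · rw [hq]; exact mem_centralizer_bot z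
      · rw [hr]; exact mem_centralizer_bot z
      · rw [hs]; exact mem_centralizer_bot z
    have h2 : z ≠ 1 := by
      rintro rfl
      exact hz1 rfl
    obtain ⟨k, hk⟩ := orderOf_prime_pow pp hP h1
    have hk0 : k ≠ 0 := by
      rintro rfl
      rw [pow_zero, orderOf_eq_one_iff] at hk
      exact h2 hk
    have h3 : p ∣ Nat.card H :=
      (dvd_pow_self p hk0).trans (dvd_card_of_mem (mem_inf.mp hz).1 hk)
    have h4 := hH.2.1 p pp h3
    simp only [Set.mem_insert_iff, Set.mem_singleton_iff] at h4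
    rcases h4 with h | h | h
    exacts [F.pq h, F.pr h, F.ps h]
  exact A.false

theorem false_of_core (C : Cfg G σ) (hG : PiGroup σ G) (F : Four σ p q r s)
    (hp : piCoreOf {p} (⊤ : Subgroup G) ≠ ⊥) : False := by
  by_cases hq : piCoreOf {q} (⊤ : Subgroup G) = ⊥
  · by_cases hr : piCoreOf {r} (⊤ : Subgroup G) = ⊥
    · by_cases hs : piCoreOf {s} (⊤ : Subgroup G) = ⊥
      · exact false_of_one C hG F hp hq hr hs
      · exact false_of_two C hG F.swap34.swap23 hp hs
    · exact false_of_two C hG F.swap23 hp hr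
  · exact false_of_two C hG F hp hq

theorem false_top (C : Cfg G σ) (hG : PiGroup σ G) (F : Four σ p q r s) : False := by
  have hsol : Group.IsSolvable G := C.solv
  by_cases hp : piCoreOf {p} (⊤ : Subgroup G) = ⊥
  · by_cases hq : piCoreOf {q} (⊤ : Subgroup G) = ⊥
    · by_cases hr : piCoreOf {r} (⊤ : Subgroup G) = ⊥
      · by_cases hs : piCoreOf {s} (⊤ : Subgroup G) = ⊥
        · obtain ⟨g, hg⟩ := C.pair p F.mp q F.mq F.pq
          have h1 : g ∈ (⊥ : Subgroup G) := by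
            apply fitting_top C hG F hp.le hq.le hr.le hs.le
            · rw [hp]; exact mem_centralizer_bot g
            · rw [hq]; exact mem_centralizer_bot g
            · rw [hr]; exact mem_centralizer_bot g
            · rw [hs]; exact mem_centralizer_bot g
          rw [mem_bot] at h1
          rw [h1, orderOf_one] at hg
          have h2 := (C.prime p F.mp).one_lt
          have h3 := (C.prime q F.mq).one_lt
          have := Nat.mul_lt_mul'' h2 h3
          omega
        · exact false_of_core C hG F.swap34.swap23.swap12 hs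
      · exact false_of_core C hG F.swap23.swap12 hr
    · exact false_of_core C hG F.swap12 hq
  · exact false_of_core C hG F hp

end Top

/-- `Four` for an explicit set -/
theorem four_of_ne (pq : p ≠ q) (pr : p ≠ r) (ps : p ≠ s) (qr : q ≠ r) (qs : q ≠ s) (rs : r ≠ s) :
    Four ({p, q, r, s} : Set ℕ) p q r s :=
  ⟨by simp, by simp, by simp, by simp, pq, pr, ps, qr, qs, rs, fun x hx => by simpa using hx⟩

/-- **The criterion** with an abstract Hall-Higman hypothesis. -/
theorem not_solvable_of_noFixed (F : Four σ p q r s) (hσ : ∀ a ∈ σ, a.Prime)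
    (pair : ∀ a ∈ σ, ∀ b ∈ σ, a ≠ b → ∃ g : G, orderOf g = a * b)
    (triple : ∀ a ∈ σ, ∀ b ∈ σ, ∀ c ∈ σ, a ≠ b → b ≠ c → a ≠ c → ∀ g : G, orderOf g ≠ a * b * c)
    (nf : ∀ a ∈ σ, ∀ b ∈ σ, a ≠ b → NoFixed.{u} b {a}) : ¬ Group.IsSolvable G := by
  intro hsol
  obtain ⟨K, hK⟩ := Cfsg.Agent.OddOrderLocal.HallPi.exists_isPiHallOf (M := (⊤ : Subgroup G))
    inferInstance σ
  have C : Cfg K σ := by
    refine ⟨inferInstance, hσ, ?_, ?_, nf⟩
    · intro a ha b hb hab
      obtain ⟨g, hg⟩ := pair a ha b hb hab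
      obtain ⟨m, -, hm⟩ := Cfsg.Agent.OddOrderLocal.HallPi.exists_conj_le_of_isPiHallOf
        (M := ⊤) inferInstance hK (X := zpowers g) le_top (by
          intro t ht htd
          rw [Nat.card_zpowers, hg] at htd
          rcases (Nat.Prime.dvd_mul ht).mp htd with h | h
          · rw [(Nat.prime_dvd_prime_iff_eq ht (hσ a ha)).mp h]; exact ha
          · rw [(Nat.prime_dvd_prime_iff_eq ht (hσ b hb)).mp h]; exact hb)
      have h1 : m * g * m⁻¹ ∈ K := hm ⟨g, mem_zpowers g, rfl⟩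
      refine ⟨⟨_, h1⟩, ?_⟩
      rw [Subgroup.orderOf_mk, orderOf_conj, hg]
    · intro a ha b hb c hc hab hbc hac g hg
      exact triple a ha b hb c hc hab hbc hac (g : G) (by rw [Subgroup.orderOf_coe, hg])
  exact false_top C (fun t ht htd => hK.2.1 t ht htd) F

/-- **The criterion**: four primes, not `2` and a Fermat prime among them. -/
theorem not_solvable (hp : p.Prime) (hq : q.Prime) (hr : r.Prime) (hs : s.Prime)
    (pq : p ≠ q) (pr : p ≠ r) (ps : p ≠ s) (qr : q ≠ r) (qs : q ≠ s) (rs : r ≠ s)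
    (pair : ∀ a ∈ ({p, q, r, s} : Set ℕ), ∀ b ∈ ({p, q, r, s} : Set ℕ), a ≠ b →
      ∃ g : G, orderOf g = a * b)
    (triple : ∀ a ∈ ({p, q, r, s} : Set ℕ), ∀ b ∈ ({p, q, r, s} : Set ℕ),
      ∀ c ∈ ({p, q, r, s} : Set ℕ), a ≠ b → b ≠ c → a ≠ c → ∀ g : G, orderOf g ≠ a * b * c)
    (hF : 2 ∈ ({p, q, r, s} : Set ℕ) → ∀ a ∈ ({p, q, r, s} : Set ℕ), ∀ m : ℕ, m ≠ 0 →
      a ≠ 2 ^ m + 1) : ¬ Group.IsSolvable G := by
  have hσ : ∀ a ∈ ({p, q, r, s} : Set ℕ), a.Prime := by
    intro a ha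
    simp only [Set.mem_insert_iff, Set.mem_singleton_iff] at ha
    rcases ha with rfl | rfl | rfl | rfl
    exacts [hp, hq, hr, hs]
  refine not_solvable_of_noFixed (four_of_ne pq pr ps qr qs rs) hσ pair triple ?_
  intro a ha b hb _
  apply Cfsg.Agent.SignalizersComponents.NoFixedGen.noFixed (hσ b hb)
  intro h2
  rw [Set.mem_singleton_iff] at h2
  rw [← h2] at ha
  exact hF ha b hb

end Cfsg.Agent.H381.Criterion
end
end
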